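import Mathlib
import Cfsg.Prelude.Def_MonsterType

set_option autoImplicit false

namespace Cfsg.Agent.Helper90

/-- In any group the `p`-core (join of the normal `p`-subgroups) is a `p`-group. -/
theorem pCore_isPGroup (p : ℕ) (G : Type*) [Group G] : IsPGroup p (Cfsg.pCore p G) :=
  Sylow.sSup_of_normal _ (fun _ h => h.2) (fun _ h => h.1)

/-- An element lying both in a subgroup of odd order and in a 2-subgroup is trivial. -/
theorem eq_one_of_mem_odd_of_mem_two {G : Type*} [Group G] {K P : Subgroup G}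
    (hK : Odd (Nat.card K)) (hP : IsPGroup 2 P) {x : G} (hxK : x ∈ K) (hxP : x ∈ P) : x = 1 := by
  obtain ⟨k, hk⟩ := hP ⟨x, hxP⟩
  have hk' : x ^ 2 ^ k = 1 := by
    have := congrArg (Subtype.val) hk
    simpa using this
  have h1 : orderOf x ∣ 2 ^ k := orderOf_dvd_of_pow_eq_one hk'
  have h2 : orderOf x ∣ Nat.card K := by
    have := orderOf_dvd_natCard (⟨x, hxK⟩ : K)
    rwa [Subgroup.orderOf_mk] at this
  have hcop : Nat.Coprime (2 ^ k) (Nat.card K) :=
    Nat.Coprime.pow_left k (Nat.coprime_two_left.mpr hK)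
  have h3 : orderOf x ∣ 1 := by
    have := Nat.dvd_gcd h1 h2
    rwa [hcop] at this
  exact orderOf_eq_one_iff.mp (Nat.dvd_one.mp h3)

/-- Key step for large extraspecial subgroups: if `Q` is a 2-subgroup with `C_G(Q) = Z(Q)` and
`C_G(Z(Q)) ≤ N_G(Q)`, and `K` is a subgroup of odd order normalized by `Q`, then the only element of
`K` centralizing `Z(Q)` is the identity. -/
theorem eq_one_of_mem_odd_of_mem_centralizer_center {G : Type*} [Group G] (Q : Subgroup G)
    (hQ2 : IsPGroup 2 ↥Q)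
    (hL2 : Subgroup.centralizer (Q : Set G) = ((Subgroup.center ↥Q).map Q.subtype))
    (hL3 : Subgroup.centralizer (((Subgroup.center ↥Q).map Q.subtype) : Set G)
      ≤ Subgroup.normalizer (Q : Set G))
    (K : Subgroup G) (hK : Odd (Nat.card K)) (hQK : Q ≤ Subgroup.normalizer (K : Set G))
    {k : G} (hk : k ∈ K)
    (hkc : k ∈ Subgroup.centralizer (((Subgroup.center ↥Q).map Q.subtype) : Set G)) : k = 1 := by
  have hkN : k ∈ Subgroup.normalizer (Q : Set G) := hL3 hkc
  have hcomm : ∀ q ∈ Q, q * k = k * q := by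
    intro q hq
    have h1 : k * q * k⁻¹ ∈ Q := (Subgroup.mem_normalizer_iff.mp hkN q).mp hq
    have h2 : q * k⁻¹ * q⁻¹ ∈ K :=
      (Subgroup.mem_normalizer_iff.mp (hQK hq) k⁻¹).mp (K.inv_mem hk)
    have h3 : k * q * k⁻¹ * q⁻¹ ∈ Q := Q.mul_mem h1 (Q.inv_mem hq)
    have h4 : k * q * k⁻¹ * q⁻¹ ∈ K := by
      have : k * q * k⁻¹ * q⁻¹ = k * (q * k⁻¹ * q⁻¹) := by group
      rw [this]
      exact K.mul_mem hk h2
    have h5 : k * q * k⁻¹ * q⁻¹ = 1 := eq_one_of_mem_odd_of_mem_two hK hQ2 h4 h3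
    have : k * q = q * k := by
      have h6 : k * q * k⁻¹ * q⁻¹ * (q * k) = q * k := by rw [h5, one_mul]
      rw [← h6]; group
    exact this.symm
  have hkC : k ∈ Subgroup.centralizer (Q : Set G) := by
    rw [Subgroup.mem_centralizer_iff]
    exact hcomm
  rw [hL2] at hkC
  obtain ⟨c, _, hc⟩ := Subgroup.mem_map.mp hkC
  have hkQ : k ∈ Q := by
    rw [← hc]; exact c.2
  exact eq_one_of_mem_odd_of_mem_two hK hQ2 hk hkQ

end Cfsg.Agent.Helper90
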