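import Mathlib

set_option autoImplicit false

namespace Cfsg.Agent.Helper90

/-- Membership in a conjugate subgroup written as `H.map (MulAut.conj g).toMonoidHom`. -/
theorem mem_map_conj_iff {G : Type*} [Group G] (H : Subgroup G) (g x : G) :
    x ∈ H.map (MulAut.conj g).toMonoidHom ↔ g⁻¹ * x * g ∈ H := by
  constructor
  · intro h
    obtain ⟨y, hy, rfl⟩ := Subgroup.mem_map.mp h
    have : g⁻¹ * ((MulAut.conj g).toMonoidHom y) * g = y := by
      show g⁻¹ * (g * y * g⁻¹) * g = y
      group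
    rw [this]; exact hy
  · intro h
    refine Subgroup.mem_map.mpr ⟨g⁻¹ * x * g, h, ?_⟩
    show g * (g⁻¹ * x * g) * g⁻¹ = x
    group

/-- An element `x` fixes the left coset `g H` exactly when `g⁻¹ x g ∈ H`. -/
theorem smul_coset_eq_iff {G : Type*} [Group G] (H : Subgroup G) (x g : G) :
    x • (QuotientGroup.mk g : G ⧸ H) = QuotientGroup.mk g ↔ g⁻¹ * x * g ∈ H := by
  rw [MulAction.Quotient.smul_mk, QuotientGroup.eq]
  constructor
  · intro h
    have := H.inv_mem h
    have e : ((x • g)⁻¹ * g)⁻¹ = g⁻¹ * x * g := by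
      simp [smul_eq_mul, mul_assoc]
    rwa [e] at this
  · intro h
    have := H.inv_mem h
    have e : (g⁻¹ * x * g)⁻¹ = (x • g)⁻¹ * g := by
      simp [smul_eq_mul, mul_assoc]
    rwa [e] at this

end Cfsg.Agent.Helper90
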