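import Mathlib

set_option autoImplicit false

namespace Cfsg.Agent.Helper90

section ESAut

variable {E : Type*} [Group E]

/-- The commutator `x y x⁻¹ y⁻¹` of two group elements. -/
def cm (x y : E) : E := x * y * x⁻¹ * y⁻¹

/-- A group all of whose commutators are central and whose centre is `{1, b₀}` with `b₀² = 1`
(for instance an extraspecial 2-group). -/
structure ESType (E : Type*) [Group E] (b₀ : E) : Prop where
  comm : ∀ x y : E, x * y * x⁻¹ * y⁻¹ ∈ Subgroup.center E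
  cen : ∀ c ∈ Subgroup.center E, c = 1 ∨ c = b₀
  sq : b₀ * b₀ = 1

namespace ESType

variable {b₀ : E}

theorem central_sq (h : ESType E b₀) {c : E} (hc : c ∈ Subgroup.center E) : c * c = 1 := by
  rcases h.cen c hc with rfl | rfl
  · simp
  · exact h.sq

theorem central_inv (h : ESType E b₀) {c : E} (hc : c ∈ Subgroup.center E) : c⁻¹ = c :=
  inv_eq_of_mul_eq_one_left (h.central_sq hc)

theorem aut_fix (h : ESType E b₀) (φ : E ≃* E) {c : E} (hc : c ∈ Subgroup.center E) :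
    φ c = c := by
  have hφc : φ c ∈ Subgroup.center E := by
    rw [Subgroup.mem_center_iff] at hc ⊢
    intro x
    have h1 := congrArg φ (hc (φ.symm x))
    simpa using h1
  rcases h.cen c hc with h1 | h1
  · rw [h1, map_one]
  · rcases h.cen (φ c) hφc with h2 | h2
    · have : c = 1 := by
        apply φ.injective
        rw [h2, map_one]
      rw [this, map_one]
    · rw [h2, h1]

theorem cm_mem (h : ESType E b₀) (x y : E) : cm x y ∈ Subgroup.center E := h.comm x y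

theorem cm_mul_left (h : ESType E b₀) (x₁ x₂ y : E) : cm (x₁ * x₂) y = cm x₁ y * cm x₂ y := by
  have hc := Subgroup.mem_center_iff.mp (h.comm x₂ y)
  unfold cm
  have e : x₁ * x₂ * y * (x₁ * x₂)⁻¹ * y⁻¹
      = x₁ * (x₂ * y * x₂⁻¹ * y⁻¹) * (y * x₁⁻¹ * y⁻¹) := by group
  rw [e, hc x₁, hc (x₁ * y * x₁⁻¹ * y⁻¹)]
  group

theorem cm_mul_right (h : ESType E b₀) (x y₁ y₂ : E) : cm x (y₁ * y₂) = cm x y₁ * cm x y₂ := by
  have hc := Subgroup.mem_center_iff.mp (h.comm x y₂)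
  unfold cm
  have e : x * (y₁ * y₂) * x⁻¹ * (y₁ * y₂)⁻¹
      = (x * y₁ * x⁻¹) * (x * y₂ * x⁻¹ * y₂⁻¹) * y₁⁻¹ := by group
  rw [e, hc (x * y₁ * x⁻¹), hc (x * y₁ * x⁻¹ * y₁⁻¹)]
  group

theorem cm_eq_one_iff (x y : E) : cm x y = 1 ↔ x * y = y * x := by
  unfold cm
  constructor
  · intro h
    have : x * y * x⁻¹ * y⁻¹ * (y * x) = y * x := by rw [h, one_mul]
    rw [← this]; group
  · intro h
    rw [h]; group

theorem cm_central_right (x : E) {c : E} (hc : c ∈ Subgroup.center E) : cm x c = 1 := by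
  rw [cm_eq_one_iff]
  exact Subgroup.mem_center_iff.mp hc x

theorem cm_central_left (y : E) {c : E} (hc : c ∈ Subgroup.center E) : cm c y = 1 := by
  rw [cm_eq_one_iff]
  exact (Subgroup.mem_center_iff.mp hc y).symm

theorem cm_sq (h : ESType E b₀) (x y : E) : cm x y * cm x y = 1 := h.central_sq (h.cm_mem x y)

theorem cm_inv_right (h : ESType E b₀) (x y : E) : cm x y⁻¹ = cm x y := by
  have h1 : cm x (y * y⁻¹) = cm x y * cm x y⁻¹ := h.cm_mul_right x y y⁻¹
  have h2 : cm x (y * y⁻¹) = 1 := by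
    rw [mul_inv_cancel, cm_eq_one_iff, mul_one, one_mul]
  rw [h2] at h1
  have h3 : cm x y * cm x y⁻¹ = cm x y * cm x y := by rw [← h1, h.cm_sq]
  exact mul_left_cancel h3

theorem cm_inv_left (h : ESType E b₀) (x y : E) : cm x⁻¹ y = cm x y := by
  have h1 : cm (x * x⁻¹) y = cm x y * cm x⁻¹ y := h.cm_mul_left x x⁻¹ y
  have h2 : cm (x * x⁻¹) y = 1 := by
    rw [mul_inv_cancel, cm_eq_one_iff, mul_one, one_mul]
  rw [h2] at h1
  have h3 : cm x y * cm x⁻¹ y = cm x y * cm x y := by rw [← h1, h.cm_sq]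
  exact mul_left_cancel h3

theorem cm_map (h : ESType E b₀) (φ : E ≃* E) (x y : E) : cm (φ x) (φ y) = cm x y := by
  have h1 : φ (cm x y) = cm (φ x) (φ y) := by
    unfold cm
    simp only [map_mul, map_inv]
  rw [← h1]
  exact h.aut_fix φ (h.cm_mem x y)

theorem sq_central (h : ESType E b₀) (x : E) : x * x ∈ Subgroup.center E := by
  rw [Subgroup.mem_center_iff]
  intro y
  have : cm (x * x) y = 1 := by rw [h.cm_mul_left, h.cm_sq]
  exact ((cm_eq_one_iff _ _).mp this).symm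

/-- Elements centralizing the centralizer of `b`: such an `x` is central or `x * b` is central. -/
theorem center_centralizer (h : ESType E b₀) (b x : E)
    (hx : ∀ p, p * b = b * p → p * x = x * p) :
    x ∈ Subgroup.center E ∨ x * b ∈ Subgroup.center E := by
  by_cases hcen : x ∈ Subgroup.center E
  · exact Or.inl hcen
  · right
    obtain ⟨q₀, hq₀⟩ : ∃ q₀, q₀ * x ≠ x * q₀ := by
      by_contra hcon
      apply hcen
      rw [Subgroup.mem_center_iff]
      intro g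
      by_contra hne
      exact hcon ⟨g, hne⟩
    have hq₀b : q₀ * b ≠ b * q₀ := fun hh => hq₀ (hx q₀ hh)
    have hval : ∀ u v : E, u * v ≠ v * u → cm u v = b₀ := by
      intro u v huv
      rcases h.cen _ (h.cm_mem u v) with h1 | h1
      · exact absurd ((cm_eq_one_iff u v).mp h1) huv
      · exact h1
    rw [Subgroup.mem_center_iff]
    intro q
    have hcm : cm q (x * b) = 1 := by
      rw [h.cm_mul_right]
      by_cases hqb : q * b = b * q
      · rw [(cm_eq_one_iff q b).mpr hqb, (cm_eq_one_iff q x).mpr (hx q hqb), one_mul]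
      · have h1 : cm q b = b₀ := hval q b hqb
        have h2 : cm q₀ b = b₀ := hval q₀ b hq₀b
        have h3 : cm q₀ x = b₀ := hval q₀ x hq₀
        have h4 : cm (q * q₀⁻¹) b = 1 := by
          rw [h.cm_mul_left, h.cm_inv_left, h1, h2, h.sq]
        have h5 : cm (q * q₀⁻¹) x = 1 :=
          (cm_eq_one_iff _ _).mpr (hx _ ((cm_eq_one_iff _ _).mp h4))
        rw [h.cm_mul_left, h.cm_inv_left, h3] at h5
        have h6 : cm q x = b₀ := by
          have : cm q x * b₀ = b₀ * b₀ := by rw [h5, h.sq]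
          exact mul_right_cancel this
        rw [h6, h1, h.sq]
    exact (cm_eq_one_iff _ _).mp hcm

/-- In a group of this type with more than 8 elements, the centralizer of a non-central
involution is non-abelian. -/
theorem exists_noncomm (h : ESType E b₀) [Finite E] (hcard : 8 < Nat.card E) (b : E)
    (hbb : b * b = 1) (hb : b ∉ Subgroup.center E) :
    ∃ p₁ p₂ : E, p₁ * b = b * p₁ ∧ p₂ * b = b * p₂ ∧ p₁ * p₂ ≠ p₂ * p₁ := by
  by_contra hcon
  have hab : ∀ p₁ p₂ : E, p₁ * b = b * p₁ → p₂ * b = b * p₂ → p₁ * p₂ = p₂ * p₁ := by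
    intro p₁ p₂ h1 h2
    by_contra hne
    exact hcon ⟨p₁, p₂, h1, h2, hne⟩
  obtain ⟨q₀, hq₀⟩ : ∃ q₀, q₀ * b ≠ b * q₀ := by
    by_contra hcon'
    apply hb
    rw [Subgroup.mem_center_iff]
    intro g
    by_contra hne
    exact hcon' ⟨g, hne⟩
  have hbinv : b⁻¹ = b := inv_eq_of_mul_eq_one_left hbb
  -- elements commuting with b
  have hP : ∀ e : E, e * b = b * e → e = 1 ∨ e = b₀ ∨ e = b ∨ e = b₀ * b := by
    intro e he
    rcases h.center_centralizer b e (fun p hp => hab p e hp he) with h1 | h1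
    · rcases h.cen e h1 with h2 | h2
      · exact Or.inl h2
      · exact Or.inr (Or.inl h2)
    · rcases h.cen _ h1 with h2 | h2
      · right; right; left
        have : e = e * b * b⁻¹ := by group
        rw [this, h2, one_mul, hbinv]
      · right; right; right
        have : e = e * b * b⁻¹ := by group
        rw [this, h2, hbinv]
  let f : Fin 2 × Fin 2 × Fin 2 → E := fun t => q₀ ^ (t.1 : ℕ) * b₀ ^ (t.2.1 : ℕ) * b ^ (t.2.2 : ℕ)
  have hf : Function.Surjective f := by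
    intro e
    have hP' : ∀ e : E, e * b = b * e → ∃ j k : Fin 2, e = b₀ ^ (j : ℕ) * b ^ (k : ℕ) := by
      intro e he
      rcases hP e he with h1 | h1 | h1 | h1
      · exact ⟨0, 0, by simp [h1]⟩
      · exact ⟨1, 0, by simp [h1]⟩
      · exact ⟨0, 1, by simp [h1]⟩
      · exact ⟨1, 1, by simp [h1]⟩
    by_cases he : e * b = b * e
    · obtain ⟨j, k, hjk⟩ := hP' e he
      exact ⟨(0, j, k), by simp [f, hjk]⟩
    · have hval : ∀ u v : E, u * v ≠ v * u → cm u v = b₀ := by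
        intro u v huv
        rcases h.cen _ (h.cm_mem u v) with h1 | h1
        · exact absurd ((cm_eq_one_iff u v).mp h1) huv
        · exact h1
      have h4 : cm (q₀⁻¹ * e) b = 1 := by
        rw [h.cm_mul_left, h.cm_inv_left, hval q₀ b hq₀, hval e b he, h.sq]
      obtain ⟨j, k, hjk⟩ := hP' _ ((cm_eq_one_iff _ _).mp h4)
      refine ⟨(1, j, k), ?_⟩
      have : e = q₀ * (q₀⁻¹ * e) := by group
      rw [this, hjk]
      simp [f, mul_assoc]
  have hle : Nat.card E ≤ Nat.card (Fin 2 × Fin 2 × Fin 2) := Nat.card_le_card_of_surjective f hf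
  have h8 : Nat.card (Fin 2 × Fin 2 × Fin 2) = 8 := by simp
  omega

/-- Core of the proof that `Z(Q) ≤ Q^g` (case B): let `ζ` be an involutory automorphism of `E`
such that an element moved by `ζ` only by a central factor is fixed, and `π₁`, `π₂` automorphisms
moving each `ζ`-fixed element only by a central factor and with `π₁ π₂ = ζ π₂ π₁`. Then `ζ` is
trivial. -/
theorem aut_trivial (h : ESType E b₀) (ζ : E ≃* E) (hζ : ∀ x, ζ (ζ x) = x)
    (h1 : ∀ y, ζ y * y⁻¹ ∈ Subgroup.center E → ζ y = y)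
    (π₁ π₂ : E ≃* E)
    (hπ₁ : ∀ u, ζ u = u → π₁ u * u⁻¹ ∈ Subgroup.center E)
    (hπ₂ : ∀ u, ζ u = u → π₂ u * u⁻¹ ∈ Subgroup.center E)
    (hz : ∀ y, π₁ (π₂ y) = ζ (π₂ (π₁ y))) : ∀ y, ζ y = y := by
  -- (i) commutators with ζ are ζ-fixed
  have hi : ∀ v, ζ (ζ v * v⁻¹) = ζ v * v⁻¹ := by
    intro v
    apply h1
    have e : ζ (ζ v * v⁻¹) * (ζ v * v⁻¹)⁻¹ = ((v * (ζ v)⁻¹) * (v * (ζ v)⁻¹)) := by
      rw [map_mul, hζ, map_inv]; group
    rw [e]
    exact h.sq_central _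
  -- (ii) elements commuting with all ζ-fixed elements are ζ-fixed
  have hii : ∀ w, (∀ u, ζ u = u → w * u = u * w) → ζ w = w := by
    intro w hw
    apply h1
    rw [Subgroup.mem_center_iff]
    intro v
    have hcm : cm (ζ w * w⁻¹) v = 1 := by
      rw [h.cm_mul_left, h.cm_inv_left]
      have e1 : cm (ζ w) v = cm w (ζ v) := by
        have := h.cm_map ζ w (ζ v)
        rw [hζ] at this
        exact this
      have e2 : ζ v * v = (ζ v * v⁻¹) * (v * v) := by group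
      have e3 : cm w (ζ v * v⁻¹) = 1 := (cm_eq_one_iff _ _).mpr (hw _ (hi v))
      have e4 : cm w (v * v) = 1 := cm_central_right w (h.sq_central v)
      rw [e1, ← h.cm_mul_right, e2, h.cm_mul_right, e3, e4, one_mul]
    exact ((cm_eq_one_iff _ _).mp hcm).symm
  -- (iii) π y * y⁻¹ is ζ-fixed
  have hiii : ∀ π : E ≃* E, (∀ u, ζ u = u → π u * u⁻¹ ∈ Subgroup.center E) →
      ∀ y, ζ (π y * y⁻¹) = π y * y⁻¹ := by
    intro π hπ y
    apply hii
    intro u hu
    have hcen := hπ u hu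
    have hcm : cm (π y * y⁻¹) u = 1 := by
      rw [h.cm_mul_left, h.cm_inv_left]
      have e1 : u = (π u * u⁻¹)⁻¹ * π u := by group
      have e2 : cm (π y) u = cm y u := by
        have e3 : cm (π y) u = cm (π y) ((π u * u⁻¹)⁻¹ * π u) := by rw [← e1]
        rw [e3, h.cm_mul_right, h.cm_inv_right, cm_central_right _ hcen, one_mul, h.cm_map]
      rw [e2, h.cm_sq]
    exact (cm_eq_one_iff _ _).mp hcm
  -- (iv)
  have hiv : ∀ y, ζ (π₂ (π₁ y)) * (π₂ (π₁ y))⁻¹ ∈ Subgroup.center E := by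
    intro y
    rw [← hz]
    -- d₁ = π₁ y * y⁻¹, d₂ = π₂ y * y⁻¹
    have hd1 := hiii π₁ hπ₁ y
    have hd2 := hiii π₂ hπ₂ y
    have hc1 := hπ₁ _ hd2   -- π₁ d₂ * d₂⁻¹ central
    have hc2 := hπ₂ _ hd1   -- π₂ d₁ * d₁⁻¹ central
    have e1 : π₁ (π₂ y) = (π₁ (π₂ y * y⁻¹) * (π₂ y * y⁻¹)⁻¹) * (π₂ y * y⁻¹) * (π₁ y * y⁻¹) * y := by
      have : π₁ (π₂ y) = π₁ (π₂ y * y⁻¹) * π₁ y := by
        rw [← map_mul]; congr 1; group
      rw [this]; group
    have e2 : π₂ (π₁ y) = (π₂ (π₁ y * y⁻¹) * (π₁ y * y⁻¹)⁻¹) * (π₁ y * y⁻¹) * (π₂ y * y⁻¹) * y := by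
      have : π₂ (π₁ y) = π₂ (π₁ y * y⁻¹) * π₂ y := by
        rw [← map_mul]; congr 1; group
      rw [this]; group
    rw [e1, e2]
    set c₁ := π₁ (π₂ y * y⁻¹) * (π₂ y * y⁻¹)⁻¹ with hc₁
    set c₂ := π₂ (π₁ y * y⁻¹) * (π₁ y * y⁻¹)⁻¹ with hc₂
    set d₁ := π₁ y * y⁻¹ with hd₁
    set d₂ := π₂ y * y⁻¹ with hd₂
    have hc2' := Subgroup.mem_center_iff.mp hc2
    have e3 : c₁ * d₂ * d₁ * y * (c₂ * d₁ * d₂ * y)⁻¹ = c₁ * cm d₂ d₁ * c₂⁻¹ := by
      have : c₁ * d₂ * d₁ * y * (c₂ * d₁ * d₂ * y)⁻¹ = c₁ * (d₂ * d₁ * d₂⁻¹ * d₁⁻¹) * c₂⁻¹ := by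
        group
      rw [this]; rfl
    rw [e3]
    exact Subgroup.mul_mem _ (Subgroup.mul_mem _ hc1 (h.cm_mem _ _)) (Subgroup.inv_mem _ hc2)
  intro y
  obtain ⟨y₁, rfl⟩ := π₂.surjective y
  obtain ⟨y₂, rfl⟩ := π₁.surjective y₁
  exact h1 _ (hiv y₂)

end ESType

end ESAut

end Cfsg.Agent.Helper90
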