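import Mathlib
import Cfsg.Prelude.Def_MonsterType
import Cfsg.Agent.Helper90.Basic

set_option autoImplicit false

namespace Cfsg.Agent.Helper90

open scoped commutatorElement

/-- An element `x` with `x * x = 1` normalizing a finite subgroup `K` and centralizing no
non-identity element of `K` inverts every element of `K`. -/
theorem inverts_of_fixedPointFree {G : Type*} [Group G] (K : Subgroup G) [Finite K] (x : G)
    (hx : x * x = 1) (hN : ∀ k ∈ K, x * k * x⁻¹ ∈ K)
    (hF : ∀ k ∈ K, x * k * x⁻¹ = k → k = 1) : ∀ k ∈ K, x * k * x⁻¹ = k⁻¹ := by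
  have hxinv : x⁻¹ = x := inv_eq_of_mul_eq_one_left hx
  let φ : K → K := fun k => ⟨(k : G)⁻¹ * (x * k * x⁻¹), K.mul_mem (K.inv_mem k.2) (hN k k.2)⟩
  have hinj : Function.Injective φ := by
    intro k l hkl
    have h1 : (k : G)⁻¹ * (x * k * x⁻¹) = (l : G)⁻¹ * (x * l * x⁻¹) := congrArg Subtype.val hkl
    have h2 : x * ((l : G) * (k : G)⁻¹) * x⁻¹ = (l : G) * (k : G)⁻¹ := by
      have e1 : x * ((l : G) * (k : G)⁻¹) * x⁻¹ = (x * l * x⁻¹) * (x * k * x⁻¹)⁻¹ := by group
      have e2 : x * k * x⁻¹ = (k : G) * ((l : G)⁻¹ * (x * l * x⁻¹)) := by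
        rw [← h1]; group
      rw [e1, e2]; group
    have h3 := hF _ (K.mul_mem l.2 (K.inv_mem k.2)) h2
    have h4 : (l : G) = k := by
      have : (l : G) = (l : G) * (k : G)⁻¹ * k := by group
      rw [this, h3, one_mul]
    exact Subtype.ext h4.symm
  have hsurj : Function.Surjective φ := Finite.injective_iff_surjective.mp hinj
  intro k hk
  obtain ⟨l, hl⟩ := hsurj ⟨k, hk⟩
  have hl' : (l : G)⁻¹ * (x * l * x⁻¹) = k := congrArg Subtype.val hl
  rw [← hl', hxinv]
  have e1 : x * ((l : G)⁻¹ * (x * l * x)) * x = x * (l : G)⁻¹ * x * l * (x * x) := by group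
  have e2 : ((l : G)⁻¹ * (x * l * x))⁻¹ = x⁻¹ * (l : G)⁻¹ * x⁻¹ * l := by group
  rw [e1, e2, hx, mul_one, hxinv]

/-- Membership in the image in `G` of the centre of a subgroup `Q`. -/
theorem mem_center_map_iff {G : Type*} [Group G] (Q : Subgroup G) (c : G) :
    c ∈ (Subgroup.center ↥Q).map Q.subtype ↔ c ∈ Q ∧ ∀ q ∈ Q, q * c = c * q := by
  constructor
  · intro h
    obtain ⟨c', hc', rfl⟩ := Subgroup.mem_map.mp h
    refine ⟨c'.2, fun q hq => ?_⟩
    have := Subgroup.mem_center_iff.mp hc' ⟨q, hq⟩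
    exact congrArg Subtype.val this
  · rintro ⟨hc, h⟩
    refine Subgroup.mem_map.mpr ⟨⟨c, hc⟩, ?_, rfl⟩
    rw [Subgroup.mem_center_iff]
    intro q
    exact Subtype.ext (h q q.2)

/-- If the centre of `Q` has order 2, it consists of the identity and one involution `z`. -/
theorem exists_center_generator {G : Type*} [Group G] (Q : Subgroup G)
    (hc : Nat.card (Subgroup.center ↥Q) = 2) :
    ∃ z : G, z ∈ (Subgroup.center ↥Q).map Q.subtype ∧ z ≠ 1 ∧ z * z = 1 ∧
      ∀ c ∈ (Subgroup.center ↥Q).map Q.subtype, c = 1 ∨ c = z := by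
  obtain ⟨c, hc1, hc2⟩ := (Nat.card_eq_two_iff' (1 : Subgroup.center ↥Q)).mp hc
  have hall : ∀ d : Subgroup.center ↥Q, d = 1 ∨ d = c := by
    intro d
    by_cases hd : d = 1
    · exact Or.inl hd
    · exact Or.inr (hc2 d hd)
  refine ⟨((c : ↥Q) : G), Subgroup.mem_map.mpr ⟨c, c.2, rfl⟩, ?_, ?_, ?_⟩
  · intro h
    apply hc1
    apply Subtype.ext
    apply Subtype.ext
    simpa using h
  · rcases hall (c * c) with h | h
    · have := congrArg (fun d : Subgroup.center ↥Q => ((d : ↥Q) : G)) h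
      simpa using this
    · exfalso
      apply hc1
      have : c * c = c * 1 := by rw [h, mul_one]
      exact mul_left_cancel this
  · intro d hd
    obtain ⟨d', hd', rfl⟩ := Subgroup.mem_map.mp hd
    rcases hall ⟨d', hd'⟩ with h | h
    · left
      have := congrArg (fun d : Subgroup.center ↥Q => ((d : ↥Q) : G)) h
      simpa using this
    · right
      have := congrArg (fun d : Subgroup.center ↥Q => ((d : ↥Q) : G)) h
      simpa using this

/-- In a subgroup `Q` whose commutator subgroup is its centre `{1, z}`, a non-central element `b`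
is conjugate in `Q` to `z * b`. -/
theorem exists_conj_eq_mul_of_not_mem_center {G : Type*} [Group G] (Q : Subgroup G)
    (hcomm : commutator ↥Q = Subgroup.center ↥Q) (z : G)
    (hz : ∀ c ∈ (Subgroup.center ↥Q).map Q.subtype, c = 1 ∨ c = z) (b : G) (hb : b ∈ Q)
    (hbZ : b ∉ (Subgroup.center ↥Q).map Q.subtype) : ∃ q ∈ Q, q * b * q⁻¹ = z * b := by
  obtain ⟨q, hq, hqb⟩ : ∃ q ∈ Q, q * b ≠ b * q := by
    by_contra hcon
    apply hbZ
    rw [mem_center_map_iff]
    refine ⟨hb, fun q hq => ?_⟩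
    by_contra hne
    exact hcon ⟨q, hq, hne⟩
  refine ⟨q, hq, ?_⟩
  have hmem : ⁅(⟨q, hq⟩ : ↥Q), (⟨b, hb⟩ : ↥Q)⁆ ∈ Subgroup.center ↥Q := by
    rw [← hcomm, commutator_def]
    exact Subgroup.commutator_mem_commutator (Subgroup.mem_top _) (Subgroup.mem_top _)
  have hmem' : q * b * q⁻¹ * b⁻¹ ∈ (Subgroup.center ↥Q).map Q.subtype :=
    Subgroup.mem_map.mpr ⟨_, hmem, by simp [commutatorElement_def]⟩
  rcases hz _ hmem' with h | h
  · exfalso
    apply hqb
    have : q * b * q⁻¹ * b⁻¹ * (b * q) = b * q := by rw [h, one_mul]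
    rw [← this]; group
  · have : q * b * q⁻¹ = q * b * q⁻¹ * b⁻¹ * b := by group
    rw [this, h]

end Cfsg.Agent.Helper90
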