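import Mathlib

set_option autoImplicit false

namespace Cfsg.Agent.Helper90

/-- The four-group `{1, z, b, z b}` generated by two commuting involutions. -/
def fourGroup {G : Type*} [Group G] (z b : G) (hzz : z * z = 1) (hbb : b * b = 1)
    (hzb : z * b = b * z) : Subgroup G where
  carrier := {x | x = 1 ∨ x = z ∨ x = b ∨ x = z * b}
  one_mem' := Or.inl rfl
  mul_mem' := by
    have hz' : ∀ x : G, z * (z * x) = x := fun x => by rw [← mul_assoc, hzz, one_mul]
    have hbz' : ∀ x : G, b * (z * x) = z * (b * x) := fun x => by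
      rw [← mul_assoc, ← hzb, mul_assoc]
    have hbz : b * z = z * b := hzb.symm
    intro x y hx hy
    rcases hx with h | h | h | h <;> rcases hy with h' | h' | h' | h' <;>
      · show x * y = 1 ∨ x * y = z ∨ x * y = b ∨ x * y = z * b
        rw [h, h']
        simp only [mul_assoc, hz', hbz', hbz, hzz, hbb, mul_one, one_mul, eq_self, true_or,
          or_true]
  inv_mem' := by
    have hzinv : z⁻¹ = z := inv_eq_of_mul_eq_one_left hzz
    have hbinv : b⁻¹ = b := inv_eq_of_mul_eq_one_left hbb
    rintro x (rfl | rfl | rfl | rfl)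
    · left; simp
    · right; left; exact hzinv
    · right; right; left; exact hbinv
    · right; right; right; rw [mul_inv_rev, hzinv, hbinv, hzb]

theorem mem_fourGroup {G : Type*} [Group G] (z b : G) (hzz : z * z = 1) (hbb : b * b = 1)
    (hzb : z * b = b * z) (x : G) :
    x ∈ fourGroup z b hzz hbb hzb ↔ x = 1 ∨ x = z ∨ x = b ∨ x = z * b := Iff.rfl

/-- The permutation action of the normalizer of `V` on the non-identity elements of `V`. -/
def normPerm {G : Type*} [Group G] (V : Subgroup G) :
    ↥(Subgroup.normalizer (V : Set G)) →* Equiv.Perm {x : G // x ∈ V ∧ x ≠ 1} where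
  toFun n :=
    { toFun := fun x => ⟨(n : G) * x * (n : G)⁻¹,
        (Subgroup.mem_normalizer_iff.mp n.2 x).mp x.2.1, fun h => x.2.2 (by
          have : (x : G) = (n : G)⁻¹ * ((n : G) * x * (n : G)⁻¹) * n := by group
          rw [this, h]; group)⟩
      invFun := fun x => ⟨(n : G)⁻¹ * x * (n : G),
        (Subgroup.mem_normalizer_iff.mp n.2 _).mpr (by
          have : (n : G) * ((n : G)⁻¹ * x * n) * (n : G)⁻¹ = x := by group
          rw [this]; exact x.2.1), fun h => x.2.2 (by
          have : (x : G) = (n : G) * ((n : G)⁻¹ * x * n) * (n : G)⁻¹ := by group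
          rw [this, h]; group)⟩
      left_inv := fun x => by
        apply Subtype.ext
        show (n : G)⁻¹ * ((n : G) * x * (n : G)⁻¹) * n = x
        group
      right_inv := fun x => by
        apply Subtype.ext
        show (n : G) * ((n : G)⁻¹ * x * n) * (n : G)⁻¹ = x
        group }
  map_one' := by
    ext x
    show ((1 : ↥(Subgroup.normalizer (V : Set G))) : G) * x *
      ((1 : ↥(Subgroup.normalizer (V : Set G))) : G)⁻¹ = x
    simp
  map_mul' := by
    intro m n
    ext x
    show ((m * n : ↥(Subgroup.normalizer (V : Set G))) : G) * x *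
      ((m * n : ↥(Subgroup.normalizer (V : Set G))) : G)⁻¹ = (m : G) * ((n : G) * x * (n : G)⁻¹) * (m : G)⁻¹
    simp [mul_assoc]

theorem normPerm_apply {G : Type*} [Group G] (V : Subgroup G)
    (n : ↥(Subgroup.normalizer (V : Set G))) (x : {x : G // x ∈ V ∧ x ≠ 1}) :
    ((normPerm V n x : {x : G // x ∈ V ∧ x ≠ 1}) : G) = (n : G) * x * (n : G)⁻¹ := rfl

/-- The kernel of the action on `V` is the centralizer. -/
theorem normPerm_ker {G : Type*} [Group G] (V : Subgroup G) :
    (normPerm V).ker = (Subgroup.centralizer (V : Set G)).subgroupOf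
      (Subgroup.normalizer (V : Set G)) := by
  ext n
  rw [MonoidHom.mem_ker, Subgroup.mem_subgroupOf, Subgroup.mem_centralizer_iff]
  constructor
  · intro h x hx
    by_cases hx1 : x = 1
    · rw [hx1, one_mul, mul_one]
    · have h1 := congrArg (fun σ : Equiv.Perm {x : G // x ∈ V ∧ x ≠ 1} =>
        ((σ ⟨x, hx, hx1⟩ : {x : G // x ∈ V ∧ x ≠ 1}) : G)) h
      have h2 : (n : G) * x * (n : G)⁻¹ = x := h1
      have : (n : G) * x = (n : G) * x * (n : G)⁻¹ * n := by group
      rw [this, h2]
  · intro h
    ext x
    show (n : G) * x * (n : G)⁻¹ = x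
    have := h x x.2.1
    rw [← this]; group

end Cfsg.Agent.Helper90
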