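import Mathlib
import Cfsg.Prelude.Def_MonsterType
import Cfsg.Agent.Helper90.Extraspecial
import Cfsg.Agent.Helper90.Conj
import Cfsg.Agent.Helper90.ESAut

set_option autoImplicit false

namespace Cfsg.Agent.Helper90

open scoped commutatorElement

/-- Elementwise data of an "extraspecial-like" subgroup `Q` of `G` with centre `{1, z}`:
`z` is a central involution of `Q`, commutators of `Q` lie in `{1, z}`, the centralizer of `Q` in
`G` is `{1, z}`, and the centralizer of `z` in `G` normalizes `Q`. -/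
structure LES {G : Type*} [Group G] (Q : Subgroup G) (z : G) : Prop where
  mem : z ∈ Q
  ne_one : z ≠ 1
  sq : z * z = 1
  central : ∀ q ∈ Q, q * z = z * q
  comm : ∀ x ∈ Q, ∀ y ∈ Q, x * y * x⁻¹ * y⁻¹ = 1 ∨ x * y * x⁻¹ * y⁻¹ = z
  cent : ∀ x : G, (∀ q ∈ Q, q * x = x * q) → x = 1 ∨ x = z
  norm : ∀ c : G, c * z = z * c → ∀ q ∈ Q, c * q * c⁻¹ ∈ Q

/-- The hypotheses (L1), (L2) on an extraspecial 2-subgroup give the elementwise data. -/
theorem exists_LES {G : Type*} [Group G] (Q : Subgroup G) (hL1 : Cfsg.IsExtraspecial 2 ↥Q)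
    (hL2 : Subgroup.centralizer (Q : Set G) = ((Subgroup.center ↥Q).map Q.subtype))
    (hL3 : Subgroup.centralizer (((Subgroup.center ↥Q).map Q.subtype) : Set G)
      ≤ Subgroup.normalizer (Q : Set G)) :
    ∃ z : G, LES Q z ∧ z ∈ (Subgroup.center ↥Q).map Q.subtype ∧
      ∀ c ∈ (Subgroup.center ↥Q).map Q.subtype, c = 1 ∨ c = z := by
  obtain ⟨z, hzZ, hz1, hzz, hzall⟩ := exists_center_generator Q hL1.2
  have hzQ : z ∈ Q := ((mem_center_map_iff Q z).mp hzZ).1
  have hzc : ∀ q ∈ Q, q * z = z * q := ((mem_center_map_iff Q z).mp hzZ).2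
  refine ⟨z, ⟨hzQ, hz1, hzz, hzc, ?_, ?_, ?_⟩, hzZ, hzall⟩
  · intro x hx y hy
    have hmem : ⁅(⟨x, hx⟩ : ↥Q), (⟨y, hy⟩ : ↥Q)⁆ ∈ Subgroup.center ↥Q := by
      rw [← hL1.1.2.2, commutator_def]
      exact Subgroup.commutator_mem_commutator (Subgroup.mem_top _) (Subgroup.mem_top _)
    have hmem' : x * y * x⁻¹ * y⁻¹ ∈ (Subgroup.center ↥Q).map Q.subtype :=
      Subgroup.mem_map.mpr ⟨_, hmem, by simp [commutatorElement_def]⟩
    exact hzall _ hmem'
  · intro x hx
    apply hzall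
    rw [← hL2, Subgroup.mem_centralizer_iff]
    exact hx
  · intro c hc q hq
    have hcN : c ∈ Subgroup.normalizer (Q : Set G) := by
      apply hL3
      rw [Subgroup.mem_centralizer_iff]
      intro d hd
      rcases hzall d hd with h | h
      · rw [h, one_mul, mul_one]
      · rw [h]; exact hc.symm
    exact (Subgroup.mem_normalizer_iff.mp hcN q).mp hq

namespace LES

variable {G : Type*} [Group G] {Q : Subgroup G} {z : G}

theorem inv_eq (h : LES Q z) : z⁻¹ = z := inv_eq_of_mul_eq_one_left h.sq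

/-- The data is invariant under conjugation. -/
theorem conj (h : LES Q z) (g : G) : LES (Q.map (MulAut.conj g).toMonoidHom) (g * z * g⁻¹) := by
  have hm : ∀ x : G, x ∈ Q.map (MulAut.conj g).toMonoidHom ↔ g⁻¹ * x * g ∈ Q :=
    fun x => mem_map_conj_iff Q g x
  refine ⟨?_, ?_, ?_, ?_, ?_, ?_, ?_⟩
  · rw [hm]
    have : g⁻¹ * (g * z * g⁻¹) * g = z := by group
    rw [this]; exact h.mem
  · intro hh
    apply h.ne_one
    have : z = g⁻¹ * (g * z * g⁻¹) * g := by group
    rw [this, hh]; group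
  · have : g * z * g⁻¹ * (g * z * g⁻¹) = g * (z * z) * g⁻¹ := by group
    rw [this, h.sq]; group
  · intro q hq
    have h1 := h.central _ ((hm q).mp hq)
    have e1 : q * (g * z * g⁻¹) = g * ((g⁻¹ * q * g) * z) * g⁻¹ := by group
    rw [e1, h1]; group
  · intro x hx y hy
    have h1 := h.comm _ ((hm x).mp hx) _ ((hm y).mp hy)
    have e1 : g⁻¹ * x * g * (g⁻¹ * y * g) * (g⁻¹ * x * g)⁻¹ * (g⁻¹ * y * g)⁻¹
        = g⁻¹ * (x * y * x⁻¹ * y⁻¹) * g := by group
    rw [e1] at h1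
    rcases h1 with h1 | h1
    · left
      have : x * y * x⁻¹ * y⁻¹ = g * (g⁻¹ * (x * y * x⁻¹ * y⁻¹) * g) * g⁻¹ := by group
      rw [this, h1]; group
    · right
      have : x * y * x⁻¹ * y⁻¹ = g * (g⁻¹ * (x * y * x⁻¹ * y⁻¹) * g) * g⁻¹ := by group
      rw [this, h1]
  · intro x hx
    have h1 : ∀ q ∈ Q, q * (g⁻¹ * x * g) = (g⁻¹ * x * g) * q := by
      intro q hq
      have hq' : g * q * g⁻¹ ∈ Q.map (MulAut.conj g).toMonoidHom := by
        rw [hm]
        have : g⁻¹ * (g * q * g⁻¹) * g = q := by group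
        rw [this]; exact hq
      have h2 := hx _ hq'
      have e1 : q * (g⁻¹ * x * g) = g⁻¹ * ((g * q * g⁻¹) * x) * g := by group
      rw [e1, h2]; group
    rcases h.cent _ h1 with h2 | h2
    · left
      have : x = g * (g⁻¹ * x * g) * g⁻¹ := by group
      rw [this, h2]; group
    · right
      have : x = g * (g⁻¹ * x * g) * g⁻¹ := by group
      rw [this, h2]
  · intro c hc q hq
    rw [hm] at hq ⊢
    have h1 : (g⁻¹ * c * g) * z = z * (g⁻¹ * c * g) := by
      have e1 : (g⁻¹ * c * g) * z = g⁻¹ * (c * (g * z * g⁻¹)) * g := by group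
      rw [e1, hc]; group
    have h2 := h.norm _ h1 _ hq
    have e2 : g⁻¹ * c * g * (g⁻¹ * q * g) * (g⁻¹ * c * g)⁻¹ = g⁻¹ * (c * q * c⁻¹) * g := by group
    rwa [e2] at h2

/-- The inverse of an element normalizing `Q` in the sense of `norm`. -/
theorem norm' (h : LES Q z) (c : G) (hc : c * z = z * c) (q : G) (hq : q ∈ Q) :
    c⁻¹ * q * c ∈ Q := by
  have h1 : c⁻¹ * z = z * c⁻¹ := by
    have : c⁻¹ * z = c⁻¹ * (z * c) * c⁻¹ := by group
    rw [this, ← hc]; group
  have := h.norm c⁻¹ h1 q hq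
  rwa [inv_inv] at this

/-- Commutators in `Q`: two elements commute or their commutator is `z`. -/
theorem comm_of_ne (h : LES Q z) {x y : G} (hx : x ∈ Q) (hy : y ∈ Q) (hne : x * y ≠ y * x) :
    x * y * x⁻¹ * y⁻¹ = z := by
  rcases h.comm x hx y hy with h1 | h1
  · exfalso
    apply hne
    have : x * y * x⁻¹ * y⁻¹ * (y * x) = y * x := by rw [h1, one_mul]
    rw [← this]; group
  · exact h1

/-- A non-central element `b` of `Q` is conjugate in `Q` to `z * b`. -/
theorem exists_conj (h : LES Q z) {b : G} (hb : b ∈ Q) (hb1 : b ≠ 1) (hbz : b ≠ z) :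
    ∃ q ∈ Q, q * b * q⁻¹ = z * b := by
  obtain ⟨q, hq, hqb⟩ : ∃ q ∈ Q, q * b ≠ b * q := by
    by_contra hcon
    rcases h.cent b (fun q hq => by
      by_contra hne
      exact hcon ⟨q, hq, hne⟩) with h1 | h1
    · exact hb1 h1
    · exact hbz h1
  refine ⟨q, hq, ?_⟩
  have := h.comm_of_ne hq hb hqb
  have e : q * b * q⁻¹ = q * b * q⁻¹ * b⁻¹ * b := by group
  rw [e, this]

/-- The group `↥Q` is of the abstract extraspecial type. -/
theorem esType (h : LES Q z) : ESType ↥Q (⟨z, h.mem⟩ : ↥Q) := by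
  refine ⟨?_, ?_, ?_⟩
  · intro x y
    rw [Subgroup.mem_center_iff]
    intro g
    apply Subtype.ext
    show (g : G) * ((x : G) * y * (x : G)⁻¹ * (y : G)⁻¹) = (x : G) * y * (x : G)⁻¹ * (y : G)⁻¹ * g
    rcases h.comm x x.2 y y.2 with h1 | h1
    · rw [h1, mul_one, one_mul]
    · rw [h1]; exact h.central g g.2
  · intro c hc
    have h1 : ∀ q ∈ Q, q * (c : G) = c * q := by
      intro q hq
      have := Subgroup.mem_center_iff.mp hc ⟨q, hq⟩
      exact congrArg Subtype.val this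
    rcases h.cent c h1 with h2 | h2
    · left; exact Subtype.ext h2
    · right; exact Subtype.ext h2
  · exact Subtype.ext h.sq

/-- An element of `G` lying in `Q` and central in `Q`, as an element of the centre of `↥Q`. -/
theorem mem_center_of (h : LES Q z) {c : G} (hc : c = 1 ∨ c = z) (hcQ : c ∈ Q) :
    (⟨c, hcQ⟩ : ↥Q) ∈ Subgroup.center ↥Q := by
  rw [Subgroup.mem_center_iff]
  intro g
  apply Subtype.ext
  show (g : G) * c = c * g
  rcases hc with h1 | h1
  · rw [h1, mul_one, one_mul]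
  · rw [h1]; exact h.central g g.2

end LES

/-- Conjugation by an element normalizing `Q`, as an automorphism of `↥Q`. -/
def conjAut {G : Type*} [Group G] (Q : Subgroup G) (n : G) (hn : ∀ q ∈ Q, n * q * n⁻¹ ∈ Q)
    (hn' : ∀ q ∈ Q, n⁻¹ * q * n ∈ Q) : ↥Q ≃* ↥Q where
  toFun q := ⟨n * q * n⁻¹, hn q q.2⟩
  invFun q := ⟨n⁻¹ * q * n, hn' q q.2⟩
  left_inv q := by
    apply Subtype.ext
    show n⁻¹ * (n * (q : G) * n⁻¹) * n = q
    group
  right_inv q := by
    apply Subtype.ext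
    show n * (n⁻¹ * (q : G) * n) * n⁻¹ = q
    group
  map_mul' p q := by
    apply Subtype.ext
    show n * ((p : G) * q) * n⁻¹ = n * p * n⁻¹ * (n * q * n⁻¹)
    group

theorem conjAut_apply {G : Type*} [Group G] (Q : Subgroup G) (n : G)
    (hn : ∀ q ∈ Q, n * q * n⁻¹ ∈ Q) (hn' : ∀ q ∈ Q, n⁻¹ * q * n ∈ Q) (q : ↥Q) :
    ((conjAut Q n hn hn' q : ↥Q) : G) = n * q * n⁻¹ := rfl

end Cfsg.Agent.Helper90
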