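import Mathlib
import Cfsg.Agent.Helper90.LES

set_option autoImplicit false

namespace Cfsg.Agent.Helper90

namespace LES

variable {G : Type*} [Group G] {Q Q1 : Subgroup G} {z b : G}

/-- The centralizer in `Q` of a non-central involution `b` is non-abelian when `|Q| > 8`. -/
theorem exists_noncomm (hQ : LES Q z) [Finite Q] (hcard : 8 < Nat.card Q) (hbQ : b ∈ Q)
    (hbb : b * b = 1) (hb1 : b ≠ 1) (hbz : b ≠ z) :
    ∃ p₁ ∈ Q, ∃ p₂ ∈ Q, p₁ * b = b * p₁ ∧ p₂ * b = b * p₂ ∧ p₁ * p₂ ≠ p₂ * p₁ := by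
  have hES := hQ.esType
  have hbc : (⟨b, hbQ⟩ : ↥Q) ∉ Subgroup.center ↥Q := by
    intro hc
    rcases hES.cen _ hc with h1 | h1
    · exact hb1 (congrArg Subtype.val h1)
    · exact hbz (congrArg Subtype.val h1)
  obtain ⟨p₁, p₂, h1, h2, h3⟩ := hES.exists_noncomm hcard ⟨b, hbQ⟩ (Subtype.ext hbb) hbc
  refine ⟨p₁, p₁.2, p₂, p₂.2, congrArg Subtype.val h1, congrArg Subtype.val h2, ?_⟩
  intro hh
  exact h3 (Subtype.ext hh)

/-- Main step: if `b ∈ Q` is a conjugate of `z` other than `z`, with attached conjugate `Q1` of `Q`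
(`hlink` says that `Q1` is the conjugate of `Q` attached to `b`), and the centralizer of `b` in `Q`
is non-abelian, then `z ∈ Q1`. -/
theorem center_mem_conj (hQ : LES Q z) (hQ1 : LES Q1 b) (hbQ : b ∈ Q) (hbz : b ≠ z)
    (hlink : ∀ n : G, n * z * n⁻¹ = b → ∀ q ∈ Q, n * q * n⁻¹ ∈ Q1)
    (hnonab : ∃ p₁ ∈ Q, ∃ p₂ ∈ Q, p₁ * b = b * p₁ ∧ p₂ * b = b * p₂ ∧ p₁ * p₂ ≠ p₂ * p₁) :
    z ∈ Q1 := by
  by_contra hz
  have hzb : z * b = b * z := (hQ.central b hbQ).symm
  have hb1 : b ≠ 1 := hQ1.ne_one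
  have hbinv : b⁻¹ = b := hQ1.inv_eq
  have hzinv : z⁻¹ = z := hQ.inv_eq
  have hESQ := hQ.esType
  -- Step 1: Q ∩ Q1 ⊆ {1, b}
  have hint : ∀ x ∈ Q, x ∈ Q1 → x = 1 ∨ x = b := by
    intro x hx hx1
    have hxP : ∀ p : ↥Q, p * (⟨b, hbQ⟩ : ↥Q) = ⟨b, hbQ⟩ * p → p * (⟨x, hx⟩ : ↥Q) = ⟨x, hx⟩ * p := by
      intro p hp
      have hpb : (p : G) * b = b * p := congrArg Subtype.val hp
      apply Subtype.ext
      show (p : G) * x = x * p
      by_contra hne
      have h1 := hQ.comm_of_ne p.2 hx hne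
      have h2 : (p : G) * x * (p : G)⁻¹ * x⁻¹ ∈ Q1 :=
        Q1.mul_mem (hQ1.norm p hpb x hx1) (Q1.inv_mem hx1)
      rw [h1] at h2
      exact hz h2
    rcases hESQ.center_centralizer ⟨b, hbQ⟩ ⟨x, hx⟩ hxP with h1 | h1
    · rcases hESQ.cen _ h1 with h2 | h2
      · exact Or.inl (congrArg Subtype.val h2)
      · exfalso
        have : x = z := congrArg Subtype.val h2
        rw [this] at hx1
        exact hz hx1
    · rcases hESQ.cen _ h1 with h2 | h2
      · right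
        have h3 : x * b = 1 := congrArg Subtype.val h2
        have : x = x * b * b⁻¹ := by group
        rw [this, h3, one_mul, hbinv]
      · exfalso
        have h3 : x * b = z := congrArg Subtype.val h2
        apply hz
        rw [← h3]
        exact Q1.mul_mem hx1 hQ1.mem
  by_cases hA : ∃ y ∈ Q1, z * y * z⁻¹ * y⁻¹ = b
  · -- Case A
    obtain ⟨y, hy, hyb⟩ := hA
    obtain ⟨q, hq, hqb⟩ := hQ.exists_conj hbQ hb1 hbz
    have hyz : y * z * y⁻¹ = z * b := by
      have h1 : (z * y * z⁻¹ * y⁻¹)⁻¹ = b⁻¹ := by rw [hyb]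
      have h2 : (z * y * z⁻¹ * y⁻¹)⁻¹ = y * z * y⁻¹ * z⁻¹ := by group
      rw [h2, hbinv] at h1
      have h3 : y * z * y⁻¹ = y * z * y⁻¹ * z⁻¹ * z := by group
      rw [h3, h1, hzb]
    have hyb' : y * b * y⁻¹ = b := by
      have := hQ1.central y hy
      rw [this]; group
    have hqz : q * z * q⁻¹ = z := by
      have := hQ.central q hq
      rw [this]; group
    have hn1 : (y * q) * z * (y * q)⁻¹ = z * b := by
      have : (y * q) * z * (y * q)⁻¹ = y * (q * z * q⁻¹) * y⁻¹ := by group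
      rw [this, hqz, hyz]
    have hn2 : (y * q) * b * (y * q)⁻¹ = z := by
      have : (y * q) * b * (y * q)⁻¹ = y * (q * b * q⁻¹) * y⁻¹ := by group
      rw [this, hqb]
      have : y * (z * b) * y⁻¹ = (y * z * y⁻¹) * (y * b * y⁻¹) := by group
      rw [this, hyz, hyb', mul_assoc, hQ1.sq, mul_one]
    have hn3 : ((y * q) * (y * q)) * z * ((y * q) * (y * q))⁻¹ = b := by
      have : ((y * q) * (y * q)) * z * ((y * q) * (y * q))⁻¹
          = (y * q) * ((y * q) * z * (y * q)⁻¹) * (y * q)⁻¹ := by group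
      rw [this, hn1]
      have : (y * q) * (z * b) * (y * q)⁻¹
          = ((y * q) * z * (y * q)⁻¹) * ((y * q) * b * (y * q)⁻¹) := by group
      rw [this, hn1, hn2, hzb, mul_assoc, hQ.sq, mul_one]
    have hn4 : ((y * q) * (y * q)) * b * ((y * q) * (y * q))⁻¹ = z * b := by
      have : ((y * q) * (y * q)) * b * ((y * q) * (y * q))⁻¹
          = (y * q) * ((y * q) * b * (y * q)⁻¹) * (y * q)⁻¹ := by group
      rw [this, hn2, hn1]
    have h5 := hlink _ hn3 b hbQ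
    rw [hn4] at h5
    apply hz
    have : z = z * b * b⁻¹ := by group
    rw [this]
    exact Q1.mul_mem h5 (Q1.inv_mem hQ1.mem)
  · -- Case B
    have hB : ∀ y ∈ Q1, z * y * z⁻¹ * y⁻¹ ≠ b := fun y hy hh => hA ⟨y, hy, hh⟩
    obtain ⟨p₁, hp₁, p₂, hp₂, hp₁b, hp₂b, hp12⟩ := hnonab
    have hES := hQ1.esType
    have hcomm : p₁ * p₂ * p₁⁻¹ * p₂⁻¹ = z := hQ.comm_of_ne hp₁ hp₂ hp12
    have key := hES.aut_trivial (conjAut Q1 z (hQ1.norm z hzb) (hQ1.norm' z hzb))
      (by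
        intro x
        apply Subtype.ext
        show z * (z * (x : G) * z⁻¹) * z⁻¹ = x
        have : z * (z * (x : G) * z⁻¹) * z⁻¹ = (z * z) * x * (z * z)⁻¹ := by group
        rw [this, hQ.sq]; group)
      (by
        intro y hy
        rcases hES.cen _ hy with h1 | h1
        · exact mul_inv_eq_one.mp h1
        · exfalso
          have h2 : z * (y : G) * z⁻¹ * (y : G)⁻¹ = b := congrArg Subtype.val h1
          exact hB y y.2 h2)
      (conjAut Q1 p₁ (hQ1.norm p₁ hp₁b) (hQ1.norm' p₁ hp₁b))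
      (conjAut Q1 p₂ (hQ1.norm p₂ hp₂b) (hQ1.norm' p₂ hp₂b))
      (by
        intro u hu
        have hu' : z * (u : G) * z⁻¹ = u := congrArg Subtype.val hu
        have huz : (u : G) * z = z * u := by
          have : (u : G) * z = z * (u : G) * z⁻¹ * z := by rw [hu']
          rw [this]; group
        have h1 : p₁ * (u : G) * p₁⁻¹ * (u : G)⁻¹ ∈ Q := by
          have : p₁ * (u : G) * p₁⁻¹ * (u : G)⁻¹ = p₁ * ((u : G) * p₁⁻¹ * (u : G)⁻¹) := by group
          rw [this]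
          exact Q.mul_mem hp₁ (hQ.norm u huz _ (Q.inv_mem hp₁))
        have h2 : p₁ * (u : G) * p₁⁻¹ * (u : G)⁻¹ ∈ Q1 :=
          Q1.mul_mem (hQ1.norm p₁ hp₁b u u.2) (Q1.inv_mem u.2)
        exact hQ1.mem_center_of (hint _ h1 h2) h2)
      (by
        intro u hu
        have hu' : z * (u : G) * z⁻¹ = u := congrArg Subtype.val hu
        have huz : (u : G) * z = z * u := by
          have : (u : G) * z = z * (u : G) * z⁻¹ * z := by rw [hu']
          rw [this]; group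
        have h1 : p₂ * (u : G) * p₂⁻¹ * (u : G)⁻¹ ∈ Q := by
          have : p₂ * (u : G) * p₂⁻¹ * (u : G)⁻¹ = p₂ * ((u : G) * p₂⁻¹ * (u : G)⁻¹) := by group
          rw [this]
          exact Q.mul_mem hp₂ (hQ.norm u huz _ (Q.inv_mem hp₂))
        have h2 : p₂ * (u : G) * p₂⁻¹ * (u : G)⁻¹ ∈ Q1 :=
          Q1.mul_mem (hQ1.norm p₂ hp₂b u u.2) (Q1.inv_mem u.2)
        exact hQ1.mem_center_of (hint _ h1 h2) h2)
      (by
        intro y
        apply Subtype.ext
        show p₁ * (p₂ * (y : G) * p₂⁻¹) * p₁⁻¹ = z * (p₂ * (p₁ * (y : G) * p₁⁻¹) * p₂⁻¹) * z⁻¹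
        rw [← hcomm]; group)
    have hcen : ∀ q ∈ Q1, q * z = z * q := by
      intro q hq
      have h1 : z * q * z⁻¹ = q := congrArg Subtype.val (key ⟨q, hq⟩)
      have : q * z = z * q * z⁻¹ * z := by rw [h1]
      rw [this]; group
    rcases hQ1.cent z hcen with h1 | h1
    · exact hQ.ne_one h1
    · exact hbz h1.symm

end LES

end Cfsg.Agent.Helper90
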