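import Mathlib
import Cfsg.Agent.Helper90.LESConj
import Cfsg.Agent.Helper90.FourGroup

set_option autoImplicit false

namespace Cfsg.Agent.Helper90

/-! ### General helpers -/

/-- Left-multiplication induction for a join of two subgroups. -/
theorem sup_induction_left {G : Type*} [Group G] (H K : Subgroup G) (p : G → Prop) (one : p 1)
    (hH : ∀ u ∈ H, ∀ x, p x → p (u * x)) (hK : ∀ u ∈ K, ∀ x, p x → p (u * x)) {x : G}
    (hx : x ∈ H ⊔ K) : p x := by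
  have hx' : x ∈ Subgroup.closure ((H : Set G) ∪ (K : Set G)) := by
    rw [Subgroup.closure_union, Subgroup.closure_eq, Subgroup.closure_eq]; exact hx
  refine Subgroup.closure_induction_left (p := fun x _ => p x) one ?_ ?_ hx'
  · intro u hu y _ hy
    rcases hu with hu | hu
    · exact hH u hu y hy
    · exact hK u hu y hy
  · intro u hu y _ hy
    rcases hu with hu | hu
    · exact hH u⁻¹ (H.inv_mem hu) y hy
    · exact hK u⁻¹ (K.inv_mem hu) y hy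

/-- Membership in a normalizer from two-sided conjugation closure. -/
theorem mem_normalizer_of_conj {G : Type*} [Group G] (V : Subgroup G) (n : G)
    (h1 : ∀ v ∈ V, n * v * n⁻¹ ∈ V) (h2 : ∀ v ∈ V, n⁻¹ * v * n ∈ V) :
    n ∈ Subgroup.normalizer (V : Set G) := by
  rw [Subgroup.mem_normalizer_iff]
  intro x
  constructor
  · exact h1 x
  · intro hx
    have := h2 _ hx
    have e : n⁻¹ * (n * x * n⁻¹) * n = x := by group
    rwa [e] at this

/-- A subgroup all of whose elements conjugate `V` into `V` lies in the normalizer. -/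
theorem le_normalizer_of_conj {G : Type*} [Group G] (H V : Subgroup G)
    (h : ∀ n ∈ H, ∀ v ∈ V, n * v * n⁻¹ ∈ V) : H ≤ Subgroup.normalizer (V : Set G) := by
  intro n hn
  apply mem_normalizer_of_conj V n (h n hn)
  intro v hv
  have := h n⁻¹ (H.inv_mem hn) v hv
  rwa [inv_inv] at this

/-- Conjugation by an element of the normalizer. -/
theorem conj_mem_of_mem_normalizer {G : Type*} [Group G] {V : Subgroup G} {n : G}
    (hn : n ∈ Subgroup.normalizer (V : Set G)) {v : G} (hv : v ∈ V) : n * v * n⁻¹ ∈ V :=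
  (Subgroup.mem_normalizer_iff.mp hn v).mp hv

/-- Commutators of elements of a closure lie in `E` as soon as those of generators do, when the
generators normalize `E`. -/
theorem comm_mem_of_closure {G : Type*} [Group G] (E : Subgroup G) (S : Set G)
    (hS : S ⊆ Subgroup.normalizer (E : Set G))
    (hST : ∀ s ∈ S, ∀ t ∈ S, s * t * s⁻¹ * t⁻¹ ∈ E) :
    ∀ x ∈ Subgroup.closure S, ∀ y ∈ Subgroup.closure S, x * y * x⁻¹ * y⁻¹ ∈ E := by
  have hN : Subgroup.closure S ≤ Subgroup.normalizer (E : Set G) :=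
    (Subgroup.closure_le _).mpr hS
  have step1 : ∀ x ∈ Subgroup.closure S, ∀ t ∈ S, x * t * x⁻¹ * t⁻¹ ∈ E := by
    intro x hx t ht
    induction hx using Subgroup.closure_induction with
    | mem s hs => exact hST s hs t ht
    | one => simp
    | mul x y hx hy ihx ihy =>
      have e : x * y * t * (x * y)⁻¹ * t⁻¹ = x * (y * t * y⁻¹ * t⁻¹) * x⁻¹ * (x * t * x⁻¹ * t⁻¹) := by
        group
      rw [e]
      exact E.mul_mem (conj_mem_of_mem_normalizer (hN hx) ihy) ihx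
    | inv x hx ihx =>
      have e : x⁻¹ * t * x⁻¹⁻¹ * t⁻¹ = x⁻¹ * (x * t * x⁻¹ * t⁻¹)⁻¹ * x⁻¹⁻¹ := by group
      rw [e]
      exact conj_mem_of_mem_normalizer (hN (Subgroup.inv_mem _ hx)) (E.inv_mem ihx)
  intro x hx y hy
  induction hy using Subgroup.closure_induction with
  | mem t ht => exact step1 x hx t ht
  | one => simp
  | mul y y' hy hy' ihy ihy' =>
    have e : x * (y * y') * x⁻¹ * (y * y')⁻¹ = (x * y * x⁻¹ * y⁻¹) * (y * (x * y' * x⁻¹ * y'⁻¹) * y⁻¹) := by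
      group
    rw [e]
    exact E.mul_mem ihy (conj_mem_of_mem_normalizer (hN hy) ihy')
  | inv y hy ihy =>
    have e : x * y⁻¹ * x⁻¹ * y⁻¹⁻¹ = y⁻¹ * (x * y * x⁻¹ * y⁻¹)⁻¹ * y⁻¹⁻¹ := by group
    rw [e]
    exact conj_mem_of_mem_normalizer (hN (Subgroup.inv_mem _ hy)) (E.inv_mem ihy)

/-- Squares of elements of a closure lie in `E` as soon as commutators and squares of generators
do. -/
theorem sq_mem_of_closure {G : Type*} [Group G] (E : Subgroup G) (S : Set G)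
    (hS : S ⊆ Subgroup.normalizer (E : Set G))
    (hST : ∀ s ∈ S, ∀ t ∈ S, s * t * s⁻¹ * t⁻¹ ∈ E) (hsq : ∀ s ∈ S, s * s ∈ E) :
    ∀ x ∈ Subgroup.closure S, x * x ∈ E := by
  have hc := comm_mem_of_closure E S hS hST
  intro x hx
  induction hx using Subgroup.closure_induction with
  | mem s hs => exact hsq s hs
  | one => simp
  | mul x y hx hy ihx ihy =>
    have e : x * y * (x * y) = (x * x) * (x⁻¹ * y * x⁻¹⁻¹ * y⁻¹) * (y * y) := by group
    rw [e]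
    exact E.mul_mem (E.mul_mem ihx (hc _ (Subgroup.inv_mem _ hx) _ hy)) ihy
  | inv x hx ihx =>
    have e : x⁻¹ * x⁻¹ = (x * x)⁻¹ := by group
    rw [e]
    exact E.inv_mem ihx

/-- Squares in an extraspecial-like subgroup are central. -/
theorem LES.sq_mem {G : Type*} [Group G] {Q : Subgroup G} {z : G} (h : LES Q z) {x : G}
    (hx : x ∈ Q) : x * x = 1 ∨ x * x = z := by
  have h1 := h.esType.sq_central ⟨x, hx⟩
  rcases h.esType.cen _ h1 with h2 | h2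
  · exact Or.inl (congrArg Subtype.val h2)
  · exact Or.inr (congrArg Subtype.val h2)


/-- Membership in `Q ⊓ C(b)`. -/
theorem mem_inf_centralizer_singleton {G : Type*} [Group G] {Q : Subgroup G} {b x : G} :
    x ∈ Q ⊓ Subgroup.centralizer ({b} : Set G) ↔ x ∈ Q ∧ x * b = b * x := by
  rw [Subgroup.mem_inf, Subgroup.mem_centralizer_iff]
  constructor
  · rintro ⟨h1, h2⟩
    exact ⟨h1, (h2 b (Set.mem_singleton b)).symm⟩
  · rintro ⟨h1, h2⟩
    refine ⟨h1, fun y hy => ?_⟩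
    rw [Set.mem_singleton_iff] at hy
    rw [hy]; exact h2.symm

theorem comm_of_conj_eq {G : Type*} [Group G] {x v : G} (h : x * v * x⁻¹ = v) : x * v = v * x := by
  have : x * v = x * v * x⁻¹ * x := by group
  rw [this, h]

theorem conj_eq_of_comm {G : Type*} [Group G] {x v : G} (h : x * v = v * x) : x * v * x⁻¹ = v := by
  rw [h]; group

theorem inv_conj_of_conj {G : Type*} [Group G] {n u v : G} (h : n * u * n⁻¹ = v) :
    n⁻¹ * v * n = u := by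
  rw [← h]; group

/-! ### Pairs of extraspecial-like subgroups -/

/-- A pair of extraspecial-like subgroups `Q`, `Q1` with central involutions `a`, `b`, each
containing the other's central involution, linked by conjugation. -/
structure Pair {G : Type*} [Group G] (Q Q1 : Subgroup G) (a b : G) : Prop where
  hQ : LES Q a
  hQ1 : LES Q1 b
  bQ : b ∈ Q
  aQ1 : a ∈ Q1
  ne : a ≠ b
  link : ∀ n : G, n * a * n⁻¹ = b → ∀ q ∈ Q, n * q * n⁻¹ ∈ Q1
  link' : ∀ n : G, n * b * n⁻¹ = a → ∀ q ∈ Q1, n * q * n⁻¹ ∈ Q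

theorem pair_of_conj {G : Type*} [Group G] {Q : Subgroup G} {z : G} (hQ : LES Q z) (g : G)
    (hbQ : g * z * g⁻¹ ∈ Q) (hbz : g * z * g⁻¹ ≠ z)
    (hzQ1 : z ∈ Q.map (MulAut.conj g).toMonoidHom) :
    Pair Q (Q.map (MulAut.conj g).toMonoidHom) z (g * z * g⁻¹) := by
  refine ⟨hQ, hQ.conj g, hbQ, hzQ1, fun h => hbz h.symm, ?_, ?_⟩
  · intro n hn q hq
    rw [mem_map_conj_iff]
    have h1 : (g⁻¹ * n) * z = z * (g⁻¹ * n) := by
      have e : (g⁻¹ * n) * z = g⁻¹ * (n * z * n⁻¹) * n := by group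
      rw [e, hn]; group
    have h2 := hQ.norm _ h1 q hq
    have e2 : g⁻¹ * n * q * (g⁻¹ * n)⁻¹ = g⁻¹ * (n * q * n⁻¹) * g := by group
    rwa [e2] at h2
  · intro n hn q hq
    rw [mem_map_conj_iff] at hq
    have h1 : (n * g) * z = z * (n * g) := by
      have e : (n * g) * z = (n * (g * z * g⁻¹) * n⁻¹) * (n * g) := by group
      rw [e, hn]
    have h2 := hQ.norm _ h1 _ hq
    have e2 : n * g * (g⁻¹ * q * g) * (n * g)⁻¹ = n * q * n⁻¹ := by group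
    rwa [e2] at h2

/-- `R = C_{Q1}(a) C_Q(b)`. -/
def pairR {G : Type*} [Group G] (Q Q1 : Subgroup G) (a b : G) : Subgroup G :=
  (Q1 ⊓ Subgroup.centralizer ({a} : Set G)) ⊔ (Q ⊓ Subgroup.centralizer ({b} : Set G))

theorem pairR_symm {G : Type*} [Group G] (Q Q1 : Subgroup G) (a b : G) :
    pairR Q1 Q b a = pairR Q Q1 a b := sup_comm _ _

theorem Pa_le_R {G : Type*} [Group G] {Q Q1 : Subgroup G} {a b : G} :
    Q ⊓ Subgroup.centralizer ({b} : Set G) ≤ pairR Q Q1 a b := le_sup_right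

theorem Pb_le_R {G : Type*} [Group G] {Q Q1 : Subgroup G} {a b : G} :
    Q1 ⊓ Subgroup.centralizer ({a} : Set G) ≤ pairR Q Q1 a b := le_sup_left

namespace Pair

variable {G : Type*} [Group G] {Q Q1 : Subgroup G} {a b : G}

theorem symm (h : Pair Q Q1 a b) : Pair Q1 Q b a :=
  ⟨h.hQ1, h.hQ, h.aQ1, h.bQ, h.ne.symm, h.link', h.link⟩

theorem ab_comm (h : Pair Q Q1 a b) : a * b = b * a := (h.hQ.central b h.bQ).symm
theorem a_sq (h : Pair Q Q1 a b) : a * a = 1 := h.hQ.sq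
theorem b_sq (h : Pair Q Q1 a b) : b * b = 1 := h.hQ1.sq
theorem a_inv (h : Pair Q Q1 a b) : a⁻¹ = a := h.hQ.inv_eq
theorem b_inv (h : Pair Q Q1 a b) : b⁻¹ = b := h.hQ1.inv_eq
theorem a_ne_one (h : Pair Q Q1 a b) : a ≠ 1 := h.hQ.ne_one
theorem b_ne_one (h : Pair Q Q1 a b) : b ≠ 1 := h.hQ1.ne_one

theorem ab_ne_one (h : Pair Q Q1 a b) : a * b ≠ 1 := by
  intro hh
  apply h.ne
  have : a = a * b * b⁻¹ := by group
  rw [this, hh, one_mul, h.b_inv]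

theorem ab_ne_a (h : Pair Q Q1 a b) : a * b ≠ a := by
  intro hh
  apply h.b_ne_one
  have : b = a⁻¹ * (a * b) := by group
  rw [this, hh]; group

theorem ab_ne_b (h : Pair Q Q1 a b) : a * b ≠ b := by
  intro hh
  apply h.a_ne_one
  have : a = a * b * b⁻¹ := by group
  rw [this, hh]; group

theorem Q_conj_a (h : Pair Q Q1 a b) {x : G} (hx : x ∈ Q) : x * a * x⁻¹ = a :=
  conj_eq_of_comm (h.hQ.central x hx)

theorem Q_conj_b (h : Pair Q Q1 a b) {x : G} (hx : x ∈ Q) :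
    x * b * x⁻¹ = b ∨ x * b * x⁻¹ = a * b := by
  have e : x * b * x⁻¹ = x * b * x⁻¹ * b⁻¹ * b := by group
  rcases h.hQ.comm x hx b h.bQ with h1 | h1
  · left; rw [e, h1, one_mul]
  · right; rw [e, h1]

theorem Q_conj_ab (h : Pair Q Q1 a b) {x : G} (hx : x ∈ Q) :
    x * (a * b) * x⁻¹ = a * (x * b * x⁻¹) := by
  have e : x * (a * b) * x⁻¹ = (x * a * x⁻¹) * (x * b * x⁻¹) := by group
  rw [e, h.Q_conj_a hx]

theorem Q1_conj_b (h : Pair Q Q1 a b) {y : G} (hy : y ∈ Q1) : y * b * y⁻¹ = b :=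
  h.symm.Q_conj_a hy

theorem Q1_conj_a (h : Pair Q Q1 a b) {y : G} (hy : y ∈ Q1) :
    y * a * y⁻¹ = a ∨ y * a * y⁻¹ = a * b := by
  rcases h.symm.Q_conj_b hy with h1 | h1
  · exact Or.inl h1
  · right; rw [h1, h.ab_comm]

theorem Q1_conj_ab (h : Pair Q Q1 a b) {y : G} (hy : y ∈ Q1) :
    y * (a * b) * y⁻¹ = (y * a * y⁻¹) * b := by
  have e : y * (a * b) * y⁻¹ = (y * a * y⁻¹) * (y * b * y⁻¹) := by group
  rw [e, h.Q1_conj_b hy]

/-- The four-group generated by the two central involutions. -/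
def V (h : Pair Q Q1 a b) : Subgroup G := fourGroup a b h.a_sq h.b_sq h.ab_comm

theorem mem_V (h : Pair Q Q1 a b) (x : G) :
    x ∈ h.V ↔ x = 1 ∨ x = a ∨ x = b ∨ x = a * b := Iff.rfl

theorem a_mem_V (h : Pair Q Q1 a b) : a ∈ h.V := Or.inr (Or.inl rfl)
theorem b_mem_V (h : Pair Q Q1 a b) : b ∈ h.V := Or.inr (Or.inr (Or.inl rfl))
theorem ab_mem_V (h : Pair Q Q1 a b) : a * b ∈ h.V := Or.inr (Or.inr (Or.inr rfl))

theorem closure_eq_V (h : Pair Q Q1 a b) : Subgroup.closure ({a, b} : Set G) = h.V := by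
  apply le_antisymm
  · rw [Subgroup.closure_le]
    intro x hx
    rcases hx with hx | hx
    · rw [hx]; exact h.a_mem_V
    · rw [Set.mem_singleton_iff] at hx; rw [hx]; exact h.b_mem_V
  · intro x hx
    have ha : a ∈ Subgroup.closure ({a, b} : Set G) := Subgroup.subset_closure (by simp)
    have hb : b ∈ Subgroup.closure ({a, b} : Set G) := Subgroup.subset_closure (by simp)
    rcases hx with hx | hx | hx | hx
    · rw [hx]; exact Subgroup.one_mem _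
    · rw [hx]; exact ha
    · rw [hx]; exact hb
    · rw [hx]; exact Subgroup.mul_mem _ ha hb

theorem Q_conj_V (h : Pair Q Q1 a b) {x : G} (hx : x ∈ Q) {v : G} (hv : v ∈ h.V) :
    x * v * x⁻¹ ∈ h.V := by
  rcases hv with hv | hv | hv | hv
  · rw [hv, mul_one, mul_inv_cancel]; exact Subgroup.one_mem _
  · rw [hv, h.Q_conj_a hx]; exact h.a_mem_V
  · rw [hv]
    rcases h.Q_conj_b hx with h1 | h1
    · rw [h1]; exact h.b_mem_V
    · rw [h1]; exact h.ab_mem_V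
  · rw [hv, h.Q_conj_ab hx]
    rcases h.Q_conj_b hx with h1 | h1
    · rw [h1]; exact h.ab_mem_V
    · rw [h1, ← mul_assoc, h.a_sq, one_mul]; exact h.b_mem_V

theorem Q1_conj_V (h : Pair Q Q1 a b) {y : G} (hy : y ∈ Q1) {v : G} (hv : v ∈ h.V) :
    y * v * y⁻¹ ∈ h.V := by
  rcases hv with hv | hv | hv | hv
  · rw [hv, mul_one, mul_inv_cancel]; exact Subgroup.one_mem _
  · rw [hv]
    rcases h.Q1_conj_a hy with h1 | h1
    · rw [h1]; exact h.a_mem_V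
    · rw [h1]; exact h.ab_mem_V
  · rw [hv, h.Q1_conj_b hy]; exact h.b_mem_V
  · rw [hv, h.Q1_conj_ab hy]
    rcases h.Q1_conj_a hy with h1 | h1
    · rw [h1]; exact h.ab_mem_V
    · rw [h1, mul_assoc, h.b_sq, mul_one]; exact h.a_mem_V

theorem X_le_normalizer (h : Pair Q Q1 a b) : Q ⊔ Q1 ≤ Subgroup.normalizer (h.V : Set G) :=
  sup_le (le_normalizer_of_conj Q h.V (fun _ hn _ hv => h.Q_conj_V hn hv))
    (le_normalizer_of_conj Q1 h.V (fun _ hn _ hv => h.Q1_conj_V hn hv))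

theorem comm_V_of (h : Pair Q Q1 a b) {x : G} (hxa : x * a = a * x) (hxb : x * b = b * x) :
    ∀ v ∈ h.V, x * v = v * x := by
  intro v hv
  rcases hv with hv | hv | hv | hv
  · rw [hv, mul_one, one_mul]
  · rw [hv]; exact hxa
  · rw [hv]; exact hxb
  · rw [hv, ← mul_assoc, hxa, mul_assoc, hxb, mul_assoc]

theorem Q_conj_Pa (h : Pair Q Q1 a b) {q p : G} (hq : q ∈ Q)
    (hp : p ∈ Q ⊓ Subgroup.centralizer ({b} : Set G)) :
    q * p * q⁻¹ ∈ Q ⊓ Subgroup.centralizer ({b} : Set G) := by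
  rw [mem_inf_centralizer_singleton] at hp ⊢
  refine ⟨Q.mul_mem (Q.mul_mem hq hp.1) (Q.inv_mem hq), ?_⟩
  have e : q * p * q⁻¹ = q * p * q⁻¹ * p⁻¹ * p := by group
  rcases h.hQ.comm q hq p hp.1 with h1 | h1
  · rw [e, h1, one_mul]; exact hp.2
  · rw [e, h1]
    calc a * p * b = a * (p * b) := by group
      _ = a * (b * p) := by rw [hp.2]
      _ = (a * b) * p := by group
      _ = (b * a) * p := by rw [h.ab_comm]
      _ = b * (a * p) := by group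

theorem comm_mem_Pa (h : Pair Q Q1 a b) {q y : G} (hq : q ∈ Q)
    (hy : y ∈ Q1 ⊓ Subgroup.centralizer ({a} : Set G)) :
    q * y * q⁻¹ * y⁻¹ ∈ Q ⊓ Subgroup.centralizer ({b} : Set G) := by
  rw [mem_inf_centralizer_singleton] at hy ⊢
  obtain ⟨hy1, hya⟩ := hy
  constructor
  · have e : q * y * q⁻¹ * y⁻¹ = q * (y * q⁻¹ * y⁻¹) := by group
    rw [e]
    exact Q.mul_mem hq (h.hQ.norm y hya _ (Q.inv_mem hq))
  · have hyb : y⁻¹ * b * y = b := by
      have := h.Q1_conj_b (Q1.inv_mem hy1)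
      rwa [inv_inv] at this
    have hyb' : y * b * y⁻¹ = b := h.Q1_conj_b hy1
    have hya' : y * a * y⁻¹ = a := conj_eq_of_comm hya
    apply comm_of_conj_eq
    have e : (q * y * q⁻¹ * y⁻¹) * b * (q * y * q⁻¹ * y⁻¹)⁻¹
        = q * (y * (q⁻¹ * (y⁻¹ * b * y) * q) * y⁻¹) * q⁻¹ := by group
    rw [e, hyb]
    have hq' := h.Q_conj_b (Q.inv_mem hq)
    rw [inv_inv] at hq'
    rcases hq' with h1 | h1
    · rw [h1, hyb']
      have : q * b * q⁻¹ = q * (q⁻¹ * b * q) * q⁻¹ := by rw [h1]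
      rw [this]; group
    · rw [h1]
      have e2 : y * (a * b) * y⁻¹ = (y * a * y⁻¹) * (y * b * y⁻¹) := by group
      rw [e2, hya', hyb']
      have : q * (a * b) * q⁻¹ = q * (q⁻¹ * b * q) * q⁻¹ := by rw [h1]
      rw [this]; group

theorem Q_conj_R (h : Pair Q Q1 a b) {q r : G} (hq : q ∈ Q) (hr : r ∈ pairR Q Q1 a b) :
    q * r * q⁻¹ ∈ pairR Q Q1 a b := by
  have hle : pairR Q Q1 a b ≤ (pairR Q Q1 a b).comap (MulAut.conj q).toMonoidHom := by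
    apply sup_le
    · intro y hy
      rw [Subgroup.mem_comap]
      show q * y * q⁻¹ ∈ pairR Q Q1 a b
      have e : q * y * q⁻¹ = (q * y * q⁻¹ * y⁻¹) * y := by group
      rw [e]
      exact Subgroup.mul_mem _ (Pa_le_R (h.comm_mem_Pa hq hy)) (Pb_le_R hy)
    · intro p hp
      rw [Subgroup.mem_comap]
      exact Pa_le_R (h.Q_conj_Pa hq hp)
  exact hle hr

theorem Q1_conj_R (h : Pair Q Q1 a b) {q r : G} (hq : q ∈ Q1) (hr : r ∈ pairR Q Q1 a b) :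
    q * r * q⁻¹ ∈ pairR Q Q1 a b := by
  rw [← pairR_symm] at hr ⊢
  exact h.symm.Q_conj_R hq hr

theorem X_le_normalizer_R (h : Pair Q Q1 a b) :
    Q ⊔ Q1 ≤ Subgroup.normalizer (pairR Q Q1 a b : Set G) :=
  sup_le (le_normalizer_of_conj _ _ (fun _ hn _ hv => h.Q_conj_R hn hv))
    (le_normalizer_of_conj _ _ (fun _ hn _ hv => h.Q1_conj_R hn hv))

theorem X_conj_R (h : Pair Q Q1 a b) {x r : G} (hx : x ∈ Q ⊔ Q1) (hr : r ∈ pairR Q Q1 a b) :
    x * r * x⁻¹ ∈ pairR Q Q1 a b :=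
  conj_mem_of_mem_normalizer (h.X_le_normalizer_R hx) hr

theorem R_le_cen_a (h : Pair Q Q1 a b) :
    pairR Q Q1 a b ≤ Subgroup.centralizer ({a} : Set G) := by
  apply sup_le inf_le_right
  intro p hp
  rw [Subgroup.mem_centralizer_iff]
  intro y hy
  rw [Set.mem_singleton_iff] at hy
  rw [hy]
  exact (h.hQ.central p hp.1).symm

theorem R_comm_a (h : Pair Q Q1 a b) {r : G} (hr : r ∈ pairR Q Q1 a b) : r * a = a * r :=
  (Subgroup.mem_centralizer_iff.mp (h.R_le_cen_a hr) a (Set.mem_singleton a)).symm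

theorem R_comm_b (h : Pair Q Q1 a b) {r : G} (hr : r ∈ pairR Q Q1 a b) : r * b = b * r := by
  rw [← pairR_symm] at hr
  exact h.symm.R_comm_a hr

theorem R_le_X (_h : Pair Q Q1 a b) : pairR Q Q1 a b ≤ Q ⊔ Q1 :=
  sup_le (inf_le_left.trans le_sup_right) (inf_le_left.trans le_sup_left)

theorem Pb_conj_Pa (h : Pair Q Q1 a b) {y p : G}
    (hy : y ∈ Q1 ⊓ Subgroup.centralizer ({a} : Set G))
    (hp : p ∈ Q ⊓ Subgroup.centralizer ({b} : Set G)) :
    y * p * y⁻¹ ∈ Q ⊓ Subgroup.centralizer ({b} : Set G) := by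
  rw [mem_inf_centralizer_singleton] at hy hp ⊢
  refine ⟨h.hQ.norm y hy.2 p hp.1, ?_⟩
  have hyb : y * b = b * y := h.hQ1.central y hy.1
  have hyb' : y⁻¹ * b = b * y⁻¹ := h.hQ1.central _ (Q1.inv_mem hy.1)
  calc y * p * y⁻¹ * b = y * p * (y⁻¹ * b) := by group
    _ = y * p * (b * y⁻¹) := by rw [hyb']
    _ = y * (p * b) * y⁻¹ := by group
    _ = y * (b * p) * y⁻¹ := by rw [hp.2]
    _ = (y * b) * p * y⁻¹ := by group
    _ = (b * y) * p * y⁻¹ := by rw [hyb]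
    _ = b * (y * p * y⁻¹) := by group

theorem R_isPGroup (h : Pair Q Q1 a b) (hQ2 : IsPGroup 2 Q) (hQ12 : IsPGroup 2 Q1) :
    IsPGroup 2 (pairR Q Q1 a b) := by
  apply IsPGroup.to_sup_of_normal_right' (hQ12.to_le inf_le_left) (hQ2.to_le inf_le_left)
  exact le_normalizer_of_conj _ _ (fun _ hn _ hv => h.Pb_conj_Pa hn hv)

theorem Q_decomp (h : Pair Q Q1 a b) {q0 : G} (hq0 : q0 ∈ Q) (hq0b : q0 * b * q0⁻¹ = a * b)
    {x : G} (hx : x ∈ Q) :
    x ∈ Q ⊓ Subgroup.centralizer ({b} : Set G) ∨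
      q0⁻¹ * x ∈ Q ⊓ Subgroup.centralizer ({b} : Set G) := by
  rcases h.Q_conj_b hx with h1 | h1
  · left
    rw [mem_inf_centralizer_singleton]
    exact ⟨hx, comm_of_conj_eq h1⟩
  · right
    rw [mem_inf_centralizer_singleton]
    refine ⟨Q.mul_mem (Q.inv_mem hq0) hx, ?_⟩
    have e : q0⁻¹ * x * b = q0⁻¹ * (x * b * x⁻¹) * q0 * (q0⁻¹ * x) := by group
    rw [e, h1, ← hq0b]; group

theorem Q1_decomp (h : Pair Q Q1 a b) {y0 : G} (hy0 : y0 ∈ Q1) (hy0a : y0 * a * y0⁻¹ = a * b)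
    {x : G} (hx : x ∈ Q1) :
    x ∈ Q1 ⊓ Subgroup.centralizer ({a} : Set G) ∨
      y0⁻¹ * x ∈ Q1 ⊓ Subgroup.centralizer ({a} : Set G) :=
  h.symm.Q_decomp hy0 (by rw [hy0a, h.ab_comm]) hx

/-- Elements `q0 ∈ Q`, `y0 ∈ Q1` inducing two different transpositions on `V`. -/
structure Gens (h : Pair Q Q1 a b) (q0 y0 : G) : Prop where
  q0Q : q0 ∈ Q
  q0b : q0 * b * q0⁻¹ = a * b
  y0Q1 : y0 ∈ Q1
  y0a : y0 * a * y0⁻¹ = a * b

theorem exists_gens (h : Pair Q Q1 a b) : ∃ q0 y0 : G, Gens h q0 y0 := by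
  obtain ⟨q0, hq0, hq0b⟩ := h.hQ.exists_conj h.bQ h.b_ne_one h.ne.symm
  obtain ⟨y0, hy0, hy0a⟩ := h.hQ1.exists_conj h.aQ1 h.a_ne_one h.ne
  exact ⟨q0, y0, hq0, hq0b, hy0, by rw [hy0a, h.ab_comm]⟩

namespace Gens

variable {h : Pair Q Q1 a b} {q0 y0 : G}

theorem q_a (hg : Gens h q0 y0) : q0 * a * q0⁻¹ = a := h.Q_conj_a hg.q0Q
theorem q_b (hg : Gens h q0 y0) : q0 * b * q0⁻¹ = a * b := hg.q0b
theorem q_ab (hg : Gens h q0 y0) : q0 * (a * b) * q0⁻¹ = b := by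
  rw [h.Q_conj_ab hg.q0Q, hg.q0b, ← mul_assoc, h.a_sq, one_mul]
theorem qi_a (hg : Gens h q0 y0) : q0⁻¹ * a * q0 = a := inv_conj_of_conj hg.q_a
theorem qi_b (hg : Gens h q0 y0) : q0⁻¹ * b * q0 = a * b := inv_conj_of_conj hg.q_ab
theorem qi_ab (hg : Gens h q0 y0) : q0⁻¹ * (a * b) * q0 = b := inv_conj_of_conj hg.q_b
theorem y_a (hg : Gens h q0 y0) : y0 * a * y0⁻¹ = a * b := hg.y0a
theorem y_b (hg : Gens h q0 y0) : y0 * b * y0⁻¹ = b := h.Q1_conj_b hg.y0Q1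
theorem y_ab (hg : Gens h q0 y0) : y0 * (a * b) * y0⁻¹ = a := by
  rw [h.Q1_conj_ab hg.y0Q1, hg.y0a, mul_assoc, h.b_sq, mul_one]
theorem yi_a (hg : Gens h q0 y0) : y0⁻¹ * a * y0 = a * b := inv_conj_of_conj hg.y_ab
theorem yi_b (hg : Gens h q0 y0) : y0⁻¹ * b * y0 = b := inv_conj_of_conj hg.y_b
theorem yi_ab (hg : Gens h q0 y0) : y0⁻¹ * (a * b) * y0 = a := inv_conj_of_conj hg.y_a

theorem q_sq_mem (hg : Gens h q0 y0) : q0 * q0 ∈ Q ⊓ Subgroup.centralizer ({b} : Set G) := by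
  rw [mem_inf_centralizer_singleton]
  refine ⟨Q.mul_mem hg.q0Q hg.q0Q, ?_⟩
  apply comm_of_conj_eq
  have e : q0 * q0 * b * (q0 * q0)⁻¹ = q0 * (q0 * b * q0⁻¹) * q0⁻¹ := by group
  rw [e, hg.q_b, hg.q_ab]

theorem y_sq_mem (hg : Gens h q0 y0) : y0 * y0 ∈ Q1 ⊓ Subgroup.centralizer ({a} : Set G) := by
  rw [mem_inf_centralizer_singleton]
  refine ⟨Q1.mul_mem hg.y0Q1 hg.y0Q1, ?_⟩
  apply comm_of_conj_eq
  have e : y0 * y0 * a * (y0 * y0)⁻¹ = y0 * (y0 * a * y0⁻¹) * y0⁻¹ := by group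
  rw [e, hg.y_a, hg.y_ab]

theorem braid_mem (hg : Gens h q0 y0) :
    q0 * y0 * q0 * y0⁻¹ * q0⁻¹ * y0⁻¹ ∈ Q1 ⊓ Subgroup.centralizer ({a} : Set G) := by
  rw [mem_inf_centralizer_singleton]
  constructor
  · have hn : (y0 * q0 * (y0 * q0)) * a * (y0 * q0 * (y0 * q0))⁻¹ = b := by
      have e : (y0 * q0 * (y0 * q0)) * a * (y0 * q0 * (y0 * q0))⁻¹
          = y0 * (q0 * (y0 * (q0 * a * q0⁻¹) * y0⁻¹) * q0⁻¹) * y0⁻¹ := by group
      rw [e, hg.q_a, hg.y_a, hg.q_ab, hg.y_b]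
    have h1 := h.link _ hn q0 hg.q0Q
    have e : q0 * y0 * q0 * y0⁻¹ * q0⁻¹ * y0⁻¹
        = y0⁻¹ * ((y0 * q0 * (y0 * q0)) * q0 * (y0 * q0 * (y0 * q0))⁻¹) := by group
    rw [e]
    exact Q1.mul_mem (Q1.inv_mem hg.y0Q1) h1
  · apply comm_of_conj_eq
    have e : (q0 * y0 * q0 * y0⁻¹ * q0⁻¹ * y0⁻¹) * a * (q0 * y0 * q0 * y0⁻¹ * q0⁻¹ * y0⁻¹)⁻¹
        = q0 * (y0 * (q0 * (y0⁻¹ * (q0⁻¹ * (y0⁻¹ * a * y0) * q0) * y0) * q0⁻¹) * y0⁻¹) * q0⁻¹ := by
      group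
    rw [e, hg.yi_a, hg.qi_ab, hg.yi_b, hg.q_b, hg.y_ab, hg.q_a]

theorem B_decomp (hg : Gens h q0 y0) {β : G} (hβ : β ∈ Q ⊔ pairR Q Q1 a b) :
    β ∈ pairR Q Q1 a b ∨ q0⁻¹ * β ∈ pairR Q Q1 a b := by
  have hR : ∀ ρ ∈ pairR Q Q1 a b, ∀ x : G,
      (x ∈ pairR Q Q1 a b ∨ q0⁻¹ * x ∈ pairR Q Q1 a b) →
      (ρ * x ∈ pairR Q Q1 a b ∨ q0⁻¹ * (ρ * x) ∈ pairR Q Q1 a b) := by
    intro ρ hρ x hx
    rcases hx with hx | hx
    · left; exact Subgroup.mul_mem _ hρ hx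
    · right
      have e : q0⁻¹ * (ρ * x) = (q0⁻¹ * ρ * q0⁻¹⁻¹) * (q0⁻¹ * x) := by group
      rw [e]
      exact Subgroup.mul_mem _ (h.Q_conj_R (Q.inv_mem hg.q0Q) hρ) hx
  refine sup_induction_left Q (pairR Q Q1 a b)
    (fun β => β ∈ pairR Q Q1 a b ∨ q0⁻¹ * β ∈ pairR Q Q1 a b)
    (Or.inl (Subgroup.one_mem _)) ?_ hR hβ
  intro u hu x hx
  rcases h.Q_decomp hg.q0Q hg.q0b hu with h1 | h1
  · exact hR u (Pa_le_R h1) x hx
  · rcases hx with hx | hx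
    · right
      have e : q0⁻¹ * (u * x) = (q0⁻¹ * u) * x := by group
      rw [e]; exact Subgroup.mul_mem _ (Pa_le_R h1) hx
    · left
      have e : u * x = (q0 * (q0⁻¹ * u) * q0⁻¹) * (q0 * q0) * (q0⁻¹ * x) := by group
      rw [e]
      exact Subgroup.mul_mem _ (Subgroup.mul_mem _ (h.Q_conj_R hg.q0Q (Pa_le_R h1))
        (Pa_le_R hg.q_sq_mem)) hx

theorem bruhat (hg : Gens h q0 y0) {x : G} (hx : x ∈ Q ⊔ Q1) :
    x ∈ Q ⊔ pairR Q Q1 a b ∨
      ∃ β ∈ Q ⊔ pairR Q Q1 a b, ∃ β' ∈ Q ⊔ pairR Q Q1 a b, x = β * y0 * β' := by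
  have hRB : pairR Q Q1 a b ≤ Q ⊔ pairR Q Q1 a b := le_sup_right
  have hQB : Q ≤ Q ⊔ pairR Q Q1 a b := le_sup_left
  have hBmul : ∀ u ∈ Q ⊔ pairR Q Q1 a b, ∀ x : G,
      (x ∈ Q ⊔ pairR Q Q1 a b ∨
        ∃ β ∈ Q ⊔ pairR Q Q1 a b, ∃ β' ∈ Q ⊔ pairR Q Q1 a b, x = β * y0 * β') →
      (u * x ∈ Q ⊔ pairR Q Q1 a b ∨
        ∃ β ∈ Q ⊔ pairR Q Q1 a b, ∃ β' ∈ Q ⊔ pairR Q Q1 a b, u * x = β * y0 * β') := by
    intro u hu x hx
    rcases hx with hx | ⟨β, hβ, β', hβ', hxe⟩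
    · exact Or.inl (Subgroup.mul_mem _ hu hx)
    · exact Or.inr ⟨u * β, Subgroup.mul_mem _ hu hβ, β', hβ', by rw [hxe]; group⟩
  have hy0mul : ∀ x : G,
      (x ∈ Q ⊔ pairR Q Q1 a b ∨
        ∃ β ∈ Q ⊔ pairR Q Q1 a b, ∃ β' ∈ Q ⊔ pairR Q Q1 a b, x = β * y0 * β') →
      (y0 * x ∈ Q ⊔ pairR Q Q1 a b ∨
        ∃ β ∈ Q ⊔ pairR Q Q1 a b, ∃ β' ∈ Q ⊔ pairR Q Q1 a b, y0 * x = β * y0 * β') := by
    intro x hx
    rcases hx with hx | ⟨β, hβ, β', hβ', hxe⟩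
    · exact Or.inr ⟨1, Subgroup.one_mem _, x, hx, by group⟩
    · rcases hg.B_decomp hβ with h1 | h1
      · left
        have e : y0 * x = (y0 * β * y0⁻¹) * (y0 * y0) * β' := by rw [hxe]; group
        rw [e]
        exact Subgroup.mul_mem _ (Subgroup.mul_mem _ (hRB (h.Q1_conj_R hg.y0Q1 h1))
          (hRB (Pb_le_R hg.y_sq_mem))) hβ'
      · right
        refine ⟨(q0 * y0 * q0 * y0⁻¹ * q0⁻¹ * y0⁻¹)⁻¹ * q0, ?_,
          q0 * (y0⁻¹ * (q0⁻¹ * β) * y0⁻¹⁻¹) * β', ?_, by rw [hxe]; group⟩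
        · exact Subgroup.mul_mem _ (Subgroup.inv_mem _ (hRB (Pb_le_R hg.braid_mem))) (hQB hg.q0Q)
        · exact Subgroup.mul_mem _ (Subgroup.mul_mem _ (hQB hg.q0Q)
            (hRB (h.Q1_conj_R (Q1.inv_mem hg.y0Q1) h1))) hβ'
  refine sup_induction_left Q Q1
    (fun x => x ∈ Q ⊔ pairR Q Q1 a b ∨
      ∃ β ∈ Q ⊔ pairR Q Q1 a b, ∃ β' ∈ Q ⊔ pairR Q Q1 a b, x = β * y0 * β')
    (Or.inl (Subgroup.one_mem _)) ?_ ?_ hx
  · intro u hu x hx
    exact hBmul u (hQB hu) x hx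
  · intro u hu x hx
    rcases h.Q1_decomp hg.y0Q1 hg.y0a hu with h1 | h1
    · exact hBmul u (hRB (Pb_le_R h1)) x hx
    · have e : u * x = y0 * ((y0⁻¹ * u) * x) := by group
      rw [e]
      exact hy0mul _ (hBmul _ (hRB (Pb_le_R h1)) x hx)

/-- The kernel of the action of `X = ⟨Q, Q1⟩` on `V` is `R`. -/
theorem ker_le (hg : Gens h q0 y0) {x : G} (hx : x ∈ Q ⊔ Q1) (hxa : x * a = a * x)
    (hxb : x * b = b * x) : x ∈ pairR Q Q1 a b := by
  have hBa : Q ⊔ pairR Q Q1 a b ≤ Subgroup.centralizer ({a} : Set G) := by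
    apply sup_le _ h.R_le_cen_a
    intro q hq
    rw [Subgroup.mem_centralizer_iff]
    intro y hy
    rw [Set.mem_singleton_iff] at hy
    rw [hy]
    exact (h.hQ.central q hq).symm
  rcases hg.bruhat hx with h1 | ⟨β, hβ, β', hβ', hxe⟩
  · rcases hg.B_decomp h1 with h2 | h2
    · exact h2
    · exfalso
      have h3 := h.R_comm_b h2
      have h4 : q0 * b * q0⁻¹ = b := by
        have e : q0 * b * q0⁻¹ = x * ((q0⁻¹ * x)⁻¹ * (b * (q0⁻¹ * x))) * x⁻¹ := by group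
        rw [e, ← h3]
        have e2 : x * ((q0⁻¹ * x)⁻¹ * (q0⁻¹ * x * b)) * x⁻¹ = x * b * x⁻¹ := by group
        rw [e2, hxb]; group
      rw [hg.q0b] at h4
      exact h.ab_ne_b h4
  · exfalso
    have hxC : x ∈ Subgroup.centralizer ({a} : Set G) := by
      rw [Subgroup.mem_centralizer_iff]
      intro y hy
      rw [Set.mem_singleton_iff] at hy
      rw [hy]; exact hxa.symm
    have hy0C : y0 ∈ Subgroup.centralizer ({a} : Set G) := by
      have e : y0 = β⁻¹ * x * β'⁻¹ := by rw [hxe]; group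
      rw [e]
      exact Subgroup.mul_mem _ (Subgroup.mul_mem _ (Subgroup.inv_mem _ (hBa hβ)) hxC)
        (Subgroup.inv_mem _ (hBa hβ'))
    have h5 : y0 * a = a * y0 :=
      (Subgroup.mem_centralizer_iff.mp hy0C a (Set.mem_singleton a)).symm
    have h6 := conj_eq_of_comm h5
    rw [hg.y0a] at h6
    exact h.ab_ne_a h6

end Gens

end Pair

end Cfsg.Agent.Helper90
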