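import Mathlib
import Cfsg.Agent.Helper90.Basic
import Cfsg.Agent.Helper90.LESPair

set_option autoImplicit false

namespace Cfsg.Agent.Helper90

/-- A normal 2-subgroup of the symmetric group of degree 3 is trivial. -/
theorem normal_two_subgroup_perm_three (P : Subgroup (Equiv.Perm (Fin 3))) [P.Normal]
    (hP : IsPGroup 2 P) : P = ⊥ := by
  rw [Subgroup.eq_bot_iff_forall]
  intro σ hσ
  by_contra hne
  have key : ∀ σ : Equiv.Perm (Fin 3), σ ≠ 1 →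
      ∃ τ : Equiv.Perm (Fin 3), (σ * (τ * σ * τ⁻¹)) ^ 3 = 1 ∧ σ * (τ * σ * τ⁻¹) ≠ 1 := by
    decide +kernel
  obtain ⟨τ, h3, hne1⟩ := key σ hne
  have hmem : σ * (τ * σ * τ⁻¹) ∈ P :=
    P.mul_mem hσ (Subgroup.Normal.conj_mem inferInstance σ hσ τ)
  obtain ⟨k, hk⟩ := hP ⟨_, hmem⟩
  have hk' : (σ * (τ * σ * τ⁻¹)) ^ 2 ^ k = 1 := by
    have := congrArg Subtype.val hk
    simpa using this
  have h1 : orderOf (σ * (τ * σ * τ⁻¹)) ∣ 2 ^ k := orderOf_dvd_of_pow_eq_one hk'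
  have h2 : orderOf (σ * (τ * σ * τ⁻¹)) ∣ 3 := orderOf_dvd_of_pow_eq_one h3
  have h3' : orderOf (σ * (τ * σ * τ⁻¹)) ∣ 1 := by
    have := Nat.dvd_gcd h1 h2
    have hc : Nat.gcd (2 ^ k) 3 = 1 := Nat.Coprime.pow_left k (by norm_num)
    rwa [hc] at this
  exact hne1 (orderOf_eq_one_iff.mp (Nat.dvd_one.mp h3'))

namespace Pair

variable {G : Type*} [Group G] {Q Q1 : Subgroup G} {a b : G}

/-- The action of `X = Q ⊔ Q1` on the non-identity elements of `V`. -/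
noncomputable def psi (h : Pair Q Q1 a b) :
    ↥(Q ⊔ Q1) →* Equiv.Perm {x : G // x ∈ h.V ∧ x ≠ 1} :=
  (normPerm h.V).comp (Subgroup.inclusion h.X_le_normalizer)

theorem psi_apply (h : Pair Q Q1 a b) (x : ↥(Q ⊔ Q1)) (t : {x : G // x ∈ h.V ∧ x ≠ 1}) :
    ((h.psi x t : {x : G // x ∈ h.V ∧ x ≠ 1}) : G) = (x : G) * t * (x : G)⁻¹ := rfl

theorem card_T (h : Pair Q Q1 a b) : Nat.card {x : G // x ∈ h.V ∧ x ≠ 1} = 3 := by
  have hset : {x : G | x ∈ h.V ∧ x ≠ 1} = {a, b, a * b} := by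
    ext x
    constructor
    · rintro ⟨hx, hx1⟩
      rcases hx with hx | hx | hx | hx
      · exact absurd hx hx1
      · left; exact hx
      · right; left; exact hx
      · right; right; exact hx
    · rintro (hx | hx | hx)
      · rw [hx]; exact ⟨h.a_mem_V, h.a_ne_one⟩
      · rw [hx]; exact ⟨h.b_mem_V, h.b_ne_one⟩
      · rw [hx]; exact ⟨h.ab_mem_V, h.ab_ne_one⟩
  have h3 : ({x : G | x ∈ h.V ∧ x ≠ 1} : Set G).ncard = 3 :=
    Set.ncard_eq_three.mpr ⟨_, _, _, h.ne, fun hh => h.ab_ne_a hh.symm,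
      fun hh => h.ab_ne_b hh.symm, hset⟩
  rw [← h3]
  exact Nat.card_coe_set_eq _

theorem R_le_cenV (h : Pair Q Q1 a b) :
    pairR Q Q1 a b ≤ Subgroup.centralizer (h.V : Set G) := by
  intro r hr
  rw [Subgroup.mem_centralizer_iff]
  intro v hv
  exact (h.comm_V_of (h.R_comm_a hr) (h.R_comm_b hr) v hv).symm

theorem R_eq_inf (h : Pair Q Q1 a b) :
    pairR Q Q1 a b = (Q ⊔ Q1) ⊓ Subgroup.centralizer (h.V : Set G) := by
  obtain ⟨q0, y0, hg⟩ := h.exists_gens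
  apply le_antisymm
  · exact le_inf h.R_le_X h.R_le_cenV
  · intro x hx
    have hC := Subgroup.mem_centralizer_iff.mp hx.2
    exact hg.ker_le hx.1 (hC a h.a_mem_V).symm (hC b h.b_mem_V).symm

theorem psi_ker (h : Pair Q Q1 a b) :
    h.psi.ker = (pairR Q Q1 a b).subgroupOf (Q ⊔ Q1) := by
  obtain ⟨q0, y0, hg⟩ := h.exists_gens
  ext x
  rw [MonoidHom.mem_ker, Subgroup.mem_subgroupOf]
  constructor
  · intro hx
    have ha := congrArg (fun σ : Equiv.Perm {x : G // x ∈ h.V ∧ x ≠ 1} =>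
      ((σ ⟨a, h.a_mem_V, h.a_ne_one⟩ : {x : G // x ∈ h.V ∧ x ≠ 1}) : G)) hx
    have ha' : (x : G) * a * (x : G)⁻¹ = a := ha
    have hb := congrArg (fun σ : Equiv.Perm {x : G // x ∈ h.V ∧ x ≠ 1} =>
      ((σ ⟨b, h.b_mem_V, h.b_ne_one⟩ : {x : G // x ∈ h.V ∧ x ≠ 1}) : G)) hx
    have hb' : (x : G) * b * (x : G)⁻¹ = b := hb
    exact hg.ker_le x.2 (comm_of_conj_eq ha') (comm_of_conj_eq hb')
  · intro hx
    ext t
    show (x : G) * t * (x : G)⁻¹ = t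
    exact conj_eq_of_comm (h.comm_V_of (h.R_comm_a hx) (h.R_comm_b hx) t t.2.1)

theorem psi_surjective (h : Pair Q Q1 a b) : Function.Surjective h.psi := by
  obtain ⟨q0, y0, hg⟩ := h.exists_gens
  have hfin : Finite {x : G // x ∈ h.V ∧ x ≠ 1} :=
    Nat.finite_of_card_ne_zero (by rw [h.card_T]; norm_num)
  have hcardP : Nat.card (Equiv.Perm {x : G // x ∈ h.V ∧ x ≠ 1}) = 6 := by
    rw [Nat.card_perm, h.card_T]; rfl
  have hq0X : q0 ∈ Q ⊔ Q1 := Subgroup.mem_sup_left hg.q0Q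
  have hy0X : y0 ∈ Q ⊔ Q1 := Subgroup.mem_sup_right hg.y0Q1
  have hp2 : Fact (Nat.Prime 2) := ⟨Nat.prime_two⟩
  have hp3 : Fact (Nat.Prime 3) := ⟨Nat.prime_three⟩
  have ho2 : orderOf (h.psi ⟨q0, hq0X⟩) = 2 := by
    apply orderOf_eq_prime
    · ext x
      show q0 * (q0 * (x : G) * q0⁻¹) * q0⁻¹ = x
      rcases x.2.1 with hx | hx | hx | hx
      · exact absurd hx x.2.2
      · rw [hx, hg.q_a, hg.q_a]
      · rw [hx, hg.q_b, hg.q_ab]
      · rw [hx, hg.q_ab, hg.q_b]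
    · intro hh
      have h1 := congrArg (fun σ : Equiv.Perm {x : G // x ∈ h.V ∧ x ≠ 1} =>
        ((σ ⟨b, h.b_mem_V, h.b_ne_one⟩ : {x : G // x ∈ h.V ∧ x ≠ 1}) : G)) hh
      have h2 : q0 * b * q0⁻¹ = b := h1
      rw [hg.q_b] at h2
      exact h.ab_ne_b h2
  have ho3 : orderOf (h.psi (⟨y0, hy0X⟩ * ⟨q0, hq0X⟩)) = 3 := by
    apply orderOf_eq_prime
    · ext x
      show (y0 * q0) * ((y0 * q0) * ((y0 * q0) * (x : G) * (y0 * q0)⁻¹) * (y0 * q0)⁻¹) *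
        (y0 * q0)⁻¹ = x
      have e : ∀ t : G, (y0 * q0) * t * (y0 * q0)⁻¹ = y0 * (q0 * t * q0⁻¹) * y0⁻¹ :=
        fun t => by group
      have hna : (y0 * q0) * a * (y0 * q0)⁻¹ = a * b := by rw [e, hg.q_a, hg.y_a]
      have hnb : (y0 * q0) * b * (y0 * q0)⁻¹ = a := by rw [e, hg.q_b, hg.y_ab]
      have hnab : (y0 * q0) * (a * b) * (y0 * q0)⁻¹ = b := by rw [e, hg.q_ab, hg.y_b]
      rcases x.2.1 with hx | hx | hx | hx
      · exact absurd hx x.2.2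
      · rw [hx, hna, hnab, hnb]
      · rw [hx, hnb, hna, hnab]
      · rw [hx, hnab, hnb, hna]
    · intro hh
      have h1 := congrArg (fun σ : Equiv.Perm {x : G // x ∈ h.V ∧ x ≠ 1} =>
        ((σ ⟨a, h.a_mem_V, h.a_ne_one⟩ : {x : G // x ∈ h.V ∧ x ≠ 1}) : G)) hh
      have h2 : (y0 * q0) * a * (y0 * q0)⁻¹ = a := h1
      have e : (y0 * q0) * a * (y0 * q0)⁻¹ = y0 * (q0 * a * q0⁻¹) * y0⁻¹ := by group
      rw [e, hg.q_a, hg.y_a] at h2
      exact h.ab_ne_a h2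
  have hdvd : Nat.card h.psi.range ∣ 6 := by
    rw [← hcardP]; exact Subgroup.card_subgroup_dvd_card _
  have h2dvd : 2 ∣ Nat.card h.psi.range := by
    have := orderOf_dvd_natCard (⟨h.psi ⟨q0, hq0X⟩, MonoidHom.mem_range.mpr ⟨_, rfl⟩⟩ :
      h.psi.range)
    rwa [Subgroup.orderOf_mk, ho2] at this
  have h3dvd : 3 ∣ Nat.card h.psi.range := by
    have := orderOf_dvd_natCard (⟨h.psi (⟨y0, hy0X⟩ * ⟨q0, hq0X⟩),
      MonoidHom.mem_range.mpr ⟨_, rfl⟩⟩ : h.psi.range)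
    rwa [Subgroup.orderOf_mk, ho3] at this
  have h6 : Nat.card h.psi.range = 6 :=
    Nat.dvd_antisymm hdvd (Nat.Coprime.mul_dvd_of_dvd_of_dvd (by norm_num) h2dvd h3dvd)
  have htop : h.psi.range = ⊤ := Subgroup.eq_top_of_card_eq _ (by rw [h6, hcardP])
  exact MonoidHom.range_eq_top.mp htop

theorem R_subgroupOf_normal (h : Pair Q Q1 a b) :
    ((pairR Q Q1 a b).subgroupOf (Q ⊔ Q1)).Normal := by
  rw [← h.psi_ker]; exact MonoidHom.normal_ker _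

theorem exists_quot_equiv (h : Pair Q Q1 a b) :
    ∃ _ : ((pairR Q Q1 a b).subgroupOf (Q ⊔ Q1)).Normal,
      Nonempty (↥(Q ⊔ Q1) ⧸ (pairR Q Q1 a b).subgroupOf (Q ⊔ Q1) ≃* Equiv.Perm (Fin 3)) := by
  have hn := h.R_subgroupOf_normal
  refine ⟨hn, ?_⟩
  have hfin : Finite {x : G // x ∈ h.V ∧ x ≠ 1} :=
    Nat.finite_of_card_ne_zero (by rw [h.card_T]; norm_num)
  have e1 : ↥(Q ⊔ Q1) ⧸ (pairR Q Q1 a b).subgroupOf (Q ⊔ Q1) ≃* ↥(Q ⊔ Q1) ⧸ h.psi.ker :=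
    QuotientGroup.quotientMulEquivOfEq h.psi_ker.symm
  have e2 := QuotientGroup.quotientKerEquivOfSurjective h.psi h.psi_surjective
  have e3 : Equiv.Perm {x : G // x ∈ h.V ∧ x ≠ 1} ≃* Equiv.Perm (Fin 3) :=
    Equiv.permCongrHom ((Finite.equivFin _).trans (finCongr h.card_T))
  exact ⟨(e1.trans e2).trans e3⟩

theorem pCore_eq (h : Pair Q Q1 a b) (hQ2 : IsPGroup 2 Q) (hQ12 : IsPGroup 2 Q1) :
    pairR Q Q1 a b = (Cfsg.pCore 2 ↥(Q ⊔ Q1)).map (Q ⊔ Q1).subtype := by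
  have hn := h.R_subgroupOf_normal
  have hR2 : IsPGroup 2 ((pairR Q Q1 a b).subgroupOf (Q ⊔ Q1)) :=
    (h.R_isPGroup hQ2 hQ12).comap_subtype
  have hle1 : (pairR Q Q1 a b).subgroupOf (Q ⊔ Q1) ≤ Cfsg.pCore 2 ↥(Q ⊔ Q1) :=
    le_sSup ⟨hn, hR2⟩
  have hle2 : Cfsg.pCore 2 ↥(Q ⊔ Q1) ≤ (pairR Q Q1 a b).subgroupOf (Q ⊔ Q1) := by
    obtain ⟨hn', ⟨e⟩⟩ := h.exists_quot_equiv
    have hφs : Function.Surjective
        (e.toMonoidHom.comp (QuotientGroup.mk' ((pairR Q Q1 a b).subgroupOf (Q ⊔ Q1)))) :=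
      e.surjective.comp (QuotientGroup.mk'_surjective _)
    have hN : (Cfsg.pCore 2 ↥(Q ⊔ Q1)).Normal := Subgroup.sSup_normal _ (fun H hH => hH.1)
    have hN' : ((Cfsg.pCore 2 ↥(Q ⊔ Q1)).map
        (e.toMonoidHom.comp (QuotientGroup.mk' ((pairR Q Q1 a b).subgroupOf (Q ⊔ Q1))))).Normal :=
      hN.map _ hφs
    have hP : IsPGroup 2 ((Cfsg.pCore 2 ↥(Q ⊔ Q1)).map
        (e.toMonoidHom.comp (QuotientGroup.mk' ((pairR Q Q1 a b).subgroupOf (Q ⊔ Q1))))) :=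
      (pCore_isPGroup 2 _).map _
    have hbot := normal_two_subgroup_perm_three _ hP
    intro x hx
    have h1 : (e.toMonoidHom.comp (QuotientGroup.mk' ((pairR Q Q1 a b).subgroupOf (Q ⊔ Q1)))) x ∈
        (Cfsg.pCore 2 ↥(Q ⊔ Q1)).map
          (e.toMonoidHom.comp (QuotientGroup.mk' ((pairR Q Q1 a b).subgroupOf (Q ⊔ Q1)))) :=
      Subgroup.mem_map_of_mem _ hx
    rw [hbot, Subgroup.mem_bot] at h1
    have h2 : (QuotientGroup.mk' ((pairR Q Q1 a b).subgroupOf (Q ⊔ Q1)) x) = 1 := by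
      apply e.injective
      rw [map_one]; exact h1
    exact (QuotientGroup.eq_one_iff x).mp h2
  have heq := le_antisymm hle1 hle2
  rw [← heq]
  exact (Subgroup.map_subgroupOf_eq_of_le h.R_le_X).symm

theorem normalizer_decomp (h : Pair Q Q1 a b) {n : G}
    (hn : n ∈ Subgroup.normalizer (h.V : Set G)) :
    ∃ x ∈ Q ⊔ Q1, ∃ c ∈ Subgroup.centralizer (h.V : Set G), n = x * c := by
  obtain ⟨x, hx⟩ := h.psi_surjective (normPerm h.V ⟨n, hn⟩)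
  refine ⟨x, x.2, (x : G)⁻¹ * n, ?_, by group⟩
  have hmem : (Subgroup.inclusion h.X_le_normalizer x)⁻¹ * ⟨n, hn⟩ ∈ (normPerm h.V).ker := by
    rw [MonoidHom.mem_ker, map_mul, map_inv]
    have : normPerm h.V (Subgroup.inclusion h.X_le_normalizer x) = normPerm h.V ⟨n, hn⟩ := hx
    rw [this, inv_mul_cancel]
  rw [normPerm_ker, Subgroup.mem_subgroupOf] at hmem
  exact hmem

theorem normalizer_eq (h : Pair Q Q1 a b) :
    Subgroup.normalizer (h.V : Set G) =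
      (Q ⊔ Q1) ⊔ (Subgroup.centralizer ({a} : Set G) ⊓ Subgroup.centralizer (h.V : Set G)) := by
  apply le_antisymm
  · intro n hn
    obtain ⟨x, hx, c, hc, rfl⟩ := h.normalizer_decomp hn
    refine Subgroup.mul_mem _ (Subgroup.mem_sup_left hx)
      (Subgroup.mem_sup_right (Subgroup.mem_inf.mpr ⟨?_, hc⟩))
    rw [Subgroup.mem_centralizer_iff]
    intro y hy
    rw [Set.mem_singleton_iff] at hy
    rw [hy]
    exact Subgroup.mem_centralizer_iff.mp hc a h.a_mem_V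
  · exact sup_le h.X_le_normalizer
      (inf_le_right.trans (Subgroup.centralizer_le_normalizer _))

theorem cenV_conj_X (h : Pair Q Q1 a b) {c : G} (hca : c * a = a * c) (hcb : c * b = b * c)
    {x : G} (hx : x ∈ Q ⊔ Q1) : c * x * c⁻¹ ∈ Q ⊔ Q1 := by
  have hle : Q ⊔ Q1 ≤ (Q ⊔ Q1).comap (MulAut.conj c).toMonoidHom := by
    apply sup_le
    · intro q hq
      rw [Subgroup.mem_comap]
      show c * q * c⁻¹ ∈ Q ⊔ Q1
      exact Subgroup.mem_sup_left (h.hQ.norm c hca q hq)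
    · intro q hq
      rw [Subgroup.mem_comap]
      show c * q * c⁻¹ ∈ Q ⊔ Q1
      exact Subgroup.mem_sup_right (h.hQ1.norm c hcb q hq)
  exact hle hx

theorem normalizer_conj_X (h : Pair Q Q1 a b) {n : G}
    (hn : n ∈ Subgroup.normalizer (h.V : Set G)) {x : G} (hx : x ∈ Q ⊔ Q1) :
    n * x * n⁻¹ ∈ Q ⊔ Q1 := by
  obtain ⟨x', hx', c, hc, hnc⟩ := h.normalizer_decomp hn
  have hc' := Subgroup.mem_centralizer_iff.mp hc
  have hca : c * a = a * c := (hc' a h.a_mem_V).symm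
  have hcb : c * b = b * c := (hc' b h.b_mem_V).symm
  have e : n * x * n⁻¹ = x' * (c * x * c⁻¹) * x'⁻¹ := by rw [hnc]; group
  rw [e]
  exact Subgroup.mul_mem _ (Subgroup.mul_mem _ hx' (h.cenV_conj_X hca hcb hx))
    (Subgroup.inv_mem _ hx')

theorem comm_X_cenV (h : Pair Q Q1 a b) {x c : G} (hx : x ∈ Q ⊔ Q1) (hca : c * a = a * c)
    (hcb : c * b = b * c) : x * c * x⁻¹ * c⁻¹ ∈ pairR Q Q1 a b := by
  obtain ⟨q0, y0, hg⟩ := h.exists_gens
  have hmemX : x * c * x⁻¹ * c⁻¹ ∈ Q ⊔ Q1 := by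
    have e : x * c * x⁻¹ * c⁻¹ = x * (c * x⁻¹ * c⁻¹) := by group
    rw [e]
    exact Subgroup.mul_mem _ hx (h.cenV_conj_X hca hcb (Subgroup.inv_mem _ hx))
  have hxN := h.X_le_normalizer hx
  have hcV : c ∈ Subgroup.centralizer (h.V : Set G) := by
    rw [Subgroup.mem_centralizer_iff]
    intro v hv
    exact (h.comm_V_of hca hcb v hv).symm
  have hconj : x * c * x⁻¹ ∈ Subgroup.centralizer (h.V : Set G) := by
    rw [Subgroup.mem_centralizer_iff]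
    intro v hv
    have hv' : x⁻¹ * v * x ∈ h.V := by
      have := conj_mem_of_mem_normalizer (Subgroup.inv_mem _ hxN) hv
      rwa [inv_inv] at this
    have h1 := Subgroup.mem_centralizer_iff.mp hcV _ hv'
    calc v * (x * c * x⁻¹) = x * ((x⁻¹ * v * x) * c) * x⁻¹ := by group
      _ = x * (c * (x⁻¹ * v * x)) * x⁻¹ := by rw [h1]
      _ = x * c * x⁻¹ * v := by group
  have hmemC : x * c * x⁻¹ * c⁻¹ ∈ Subgroup.centralizer (h.V : Set G) :=
    Subgroup.mul_mem _ hconj (Subgroup.inv_mem _ hcV)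
  have hC := Subgroup.mem_centralizer_iff.mp hmemC
  exact hg.ker_le hmemX (hC a h.a_mem_V).symm (hC b h.b_mem_V).symm

end Pair

end Cfsg.Agent.Helper90
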