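import Mathlib
import Cfsg.Agent.Helper90.Basic
import Cfsg.Agent.Helper90.LESPair
import Cfsg.Agent.Helper90.LESPairS3

set_option autoImplicit false

namespace Cfsg.Agent.Helper90

/-- The pair attached to a large extraspecial 2-subgroup `Q` of width at least 2 and a conjugate
of its central involution lying in `Q`. -/
theorem exists_pair_of_large {G : Type*} [Group G] [Finite G] (Q : Subgroup G)
    (hQ : Cfsg.IsLargeExtraspecial Q) (z : G)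
    (hz : ((Subgroup.center ↥Q).map Q.subtype) = Subgroup.zpowers z) (hz2 : orderOf z = 2)
    (w : ℕ) (hw : 2 ≤ w) (hcard : Nat.card ↥Q = 2 ^ (2 * w + 1)) (g : G)
    (hgH : g ∉ Subgroup.centralizer ({z} : Set G)) (hgQ : g * z * g⁻¹ ∈ Q) :
    Pair Q (Q.map (MulAut.conj g).toMonoidHom) z (g * z * g⁻¹) ∧ IsPGroup 2 ↥Q ∧
      IsPGroup 2 ↥(Q.map (MulAut.conj g).toMonoidHom) := by
  obtain ⟨hL1, hL2, hL3, -⟩ := hQ
  obtain ⟨z', hLES, hz'Z, hzall⟩ := exists_LES Q hL1 hL2 hL3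
  have hz1 : z ≠ 1 := by
    intro hh
    rw [hh, orderOf_one] at hz2
    exact absurd hz2 (by norm_num)
  have hzz' : z = z' := by
    have hzmem : z ∈ (Subgroup.center ↥Q).map Q.subtype := by
      rw [hz]; exact Subgroup.mem_zpowers z
    rcases hzall z hzmem with h1 | h1
    · exact absurd h1 hz1
    · exact h1
  subst hzz'
  have hbz : g * z * g⁻¹ ≠ z := by
    intro hh
    apply hgH
    rw [Subgroup.mem_centralizer_iff]
    intro y hy
    rw [Set.mem_singleton_iff] at hy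
    rw [hy]
    exact (comm_of_conj_eq hh).symm
  have hQ1 := hLES.conj g
  have hlink : ∀ n : G, n * z * n⁻¹ = g * z * g⁻¹ → ∀ q ∈ Q,
      n * q * n⁻¹ ∈ Q.map (MulAut.conj g).toMonoidHom := by
    intro n hn q hq
    rw [mem_map_conj_iff]
    have h1 : (g⁻¹ * n) * z = z * (g⁻¹ * n) := by
      have e : (g⁻¹ * n) * z = g⁻¹ * (n * z * n⁻¹) * n := by group
      rw [e, hn]; group
    have h2 := hLES.norm _ h1 q hq
    have e2 : g⁻¹ * n * q * (g⁻¹ * n)⁻¹ = g⁻¹ * (n * q * n⁻¹) * g := by group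
    rwa [e2] at h2
  have hc8 : 8 < Nat.card ↥Q := by
    rw [hcard]
    calc 8 < 2 ^ 5 := by norm_num
      _ ≤ 2 ^ (2 * w + 1) := Nat.pow_le_pow_right (by norm_num) (by omega)
  have hnonab := hLES.exists_noncomm hc8 hgQ hQ1.sq hQ1.ne_one hbz
  have hzQ1 : z ∈ Q.map (MulAut.conj g).toMonoidHom :=
    hLES.center_mem_conj hQ1 hgQ hbz hlink hnonab
  have hQ2 : IsPGroup 2 ↥Q := hL1.1.1
  exact ⟨pair_of_conj hLES g hgQ hbz hzQ1, hQ2, hQ2.map _⟩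

namespace Pair

variable {G : Type*} [Group G] {Q Q1 : Subgroup G} {a b : G}

theorem a_mem_E (h : Pair Q Q1 a b) : a ∈ Q ⊓ Q1 := ⟨h.hQ.mem, h.aQ1⟩
theorem b_mem_E (h : Pair Q Q1 a b) : b ∈ Q ⊓ Q1 := ⟨h.bQ, h.hQ1.mem⟩

theorem E_comm (h : Pair Q Q1 a b) {x y : G} (hx : x ∈ Q ⊓ Q1) (hy : y ∈ Q ⊓ Q1) :
    x * y = y * x := by
  have e : x * y = x * y * x⁻¹ * y⁻¹ * (y * x) := by group
  rcases h.hQ.comm x hx.1 y hy.1 with h1 | h1
  · rw [e, h1, one_mul]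
  · rcases h.hQ1.comm x hx.2 y hy.2 with h2 | h2
    · rw [e, h2, one_mul]
    · exact absurd (h1.symm.trans h2) h.ne

theorem E_sq (h : Pair Q Q1 a b) {x : G} (hx : x ∈ Q ⊓ Q1) : x * x = 1 := by
  rcases h.hQ.sq_mem hx.1 with h1 | h1
  · exact h1
  · rcases h.hQ1.sq_mem hx.2 with h2 | h2
    · exact h2
    · exact absurd (h1.symm.trans h2) h.ne

theorem E_isElementaryAbelian (h : Pair Q Q1 a b) : Cfsg.IsElementaryAbelian 2 (Q ⊓ Q1) := by
  refine ⟨⟨⟨fun x y => Subtype.ext (h.E_comm x.2 y.2)⟩⟩, fun x hx => ?_⟩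
  rw [pow_two]; exact h.E_sq hx

theorem Pb_inf_Pa (h : Pair Q Q1 a b) :
    (Q1 ⊓ Subgroup.centralizer ({a} : Set G)) ⊓ (Q ⊓ Subgroup.centralizer ({b} : Set G))
      = Q ⊓ Q1 := by
  ext x
  rw [Subgroup.mem_inf, mem_inf_centralizer_singleton, mem_inf_centralizer_singleton,
    Subgroup.mem_inf]
  constructor
  · rintro ⟨h1, h2⟩
    exact ⟨h2.1, h1.1⟩
  · rintro ⟨h1, h2⟩
    exact ⟨⟨h2, h.hQ.central x h1⟩, ⟨h1, h.hQ1.central x h2⟩⟩

theorem E_le_Pa (h : Pair Q Q1 a b) : Q ⊓ Q1 ≤ Q ⊓ Subgroup.centralizer ({b} : Set G) := by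
  rw [← h.Pb_inf_Pa]; exact inf_le_right

theorem E_le_R (h : Pair Q Q1 a b) : Q ⊓ Q1 ≤ pairR Q Q1 a b := h.E_le_Pa.trans Pa_le_R

theorem Q_conj_E (h : Pair Q Q1 a b) {q e : G} (hq : q ∈ Q) (he : e ∈ Q ⊓ Q1) :
    q * e * q⁻¹ ∈ Q ⊓ Q1 := by
  have e1 : q * e * q⁻¹ = q * e * q⁻¹ * e⁻¹ * e := by group
  rw [e1]
  rcases h.hQ.comm q hq e he.1 with h1 | h1
  · rw [h1, one_mul]; exact he
  · rw [h1]; exact Subgroup.mul_mem _ h.a_mem_E he

theorem Q1_conj_E (h : Pair Q Q1 a b) {q e : G} (hq : q ∈ Q1) (he : e ∈ Q ⊓ Q1) :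
    q * e * q⁻¹ ∈ Q ⊓ Q1 := by
  rw [inf_comm] at he ⊢
  exact h.symm.Q_conj_E hq he

theorem X_le_normalizer_E (h : Pair Q Q1 a b) :
    Q ⊔ Q1 ≤ Subgroup.normalizer ((Q ⊓ Q1 : Subgroup G) : Set G) :=
  sup_le (le_normalizer_of_conj _ _ (fun _ hn _ hv => h.Q_conj_E hn hv))
    (le_normalizer_of_conj _ _ (fun _ hn _ hv => h.Q1_conj_E hn hv))

theorem Pa_Pb_comm_mem (h : Pair Q Q1 a b) {p y : G}
    (hp : p ∈ Q ⊓ Subgroup.centralizer ({b} : Set G))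
    (hy : y ∈ Q1 ⊓ Subgroup.centralizer ({a} : Set G)) :
    p * y * p⁻¹ * y⁻¹ ∈ Q ⊓ Q1 := by
  rw [mem_inf_centralizer_singleton] at hp hy
  constructor
  · have e : p * y * p⁻¹ * y⁻¹ = p * (y * p⁻¹ * y⁻¹) := by group
    rw [e]
    exact Q.mul_mem hp.1 (h.hQ.norm y hy.2 _ (Q.inv_mem hp.1))
  · exact Q1.mul_mem (h.hQ1.norm p hp.2 y hy.1) (Q1.inv_mem hy.1)

theorem gens_comm_mem (h : Pair Q Q1 a b) :
    ∀ s ∈ ((Q1 ⊓ Subgroup.centralizer ({a} : Set G) : Subgroup G) : Set G) ∪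
        ((Q ⊓ Subgroup.centralizer ({b} : Set G) : Subgroup G) : Set G),
      ∀ t ∈ ((Q1 ⊓ Subgroup.centralizer ({a} : Set G) : Subgroup G) : Set G) ∪
        ((Q ⊓ Subgroup.centralizer ({b} : Set G) : Subgroup G) : Set G),
      s * t * s⁻¹ * t⁻¹ ∈ Q ⊓ Q1 := by
  intro s hs t ht
  rcases hs with hs | hs <;> rcases ht with ht | ht
  · rcases h.hQ1.comm s hs.1 t ht.1 with h1 | h1
    · rw [h1]; exact Subgroup.one_mem _
    · rw [h1]; exact h.b_mem_E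
  · have e : s * t * s⁻¹ * t⁻¹ = (t * s * t⁻¹ * s⁻¹)⁻¹ := by group
    rw [e]
    exact Subgroup.inv_mem _ (h.Pa_Pb_comm_mem ht hs)
  · exact h.Pa_Pb_comm_mem hs ht
  · rcases h.hQ.comm s hs.1 t ht.1 with h1 | h1
    · rw [h1]; exact Subgroup.one_mem _
    · rw [h1]; exact h.a_mem_E

theorem gens_le_normalizer_E (h : Pair Q Q1 a b) :
    ((Q1 ⊓ Subgroup.centralizer ({a} : Set G) : Subgroup G) : Set G) ∪
        ((Q ⊓ Subgroup.centralizer ({b} : Set G) : Subgroup G) : Set G)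
      ⊆ Subgroup.normalizer ((Q ⊓ Q1 : Subgroup G) : Set G) := by
  intro s hs
  apply h.X_le_normalizer_E
  rcases hs with hs | hs
  · exact Subgroup.mem_sup_right hs.1
  · exact Subgroup.mem_sup_left hs.1

theorem R_eq_closure (Q Q1 : Subgroup G) (a b : G) :
    pairR Q Q1 a b = Subgroup.closure
      (((Q1 ⊓ Subgroup.centralizer ({a} : Set G) : Subgroup G) : Set G) ∪
        ((Q ⊓ Subgroup.centralizer ({b} : Set G) : Subgroup G) : Set G)) := by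
  rw [Subgroup.closure_union, Subgroup.closure_eq, Subgroup.closure_eq]; rfl

theorem R_comm_mem (h : Pair Q Q1 a b) {x y : G} (hx : x ∈ pairR Q Q1 a b)
    (hy : y ∈ pairR Q Q1 a b) : x * y * x⁻¹ * y⁻¹ ∈ Q ⊓ Q1 := by
  rw [R_eq_closure] at hx hy
  exact comm_mem_of_closure _ _ h.gens_le_normalizer_E h.gens_comm_mem x hx y hy

theorem R_sq_mem (h : Pair Q Q1 a b) {x : G} (hx : x ∈ pairR Q Q1 a b) : x * x ∈ Q ⊓ Q1 := by
  rw [R_eq_closure] at hx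
  refine sq_mem_of_closure _ _ h.gens_le_normalizer_E h.gens_comm_mem ?_ x hx
  intro s hs
  rcases hs with hs | hs
  · rcases h.hQ1.sq_mem hs.1 with h1 | h1
    · rw [h1]; exact Subgroup.one_mem _
    · rw [h1]; exact h.b_mem_E
  · rcases h.hQ.sq_mem hs.1 with h1 | h1
    · rw [h1]; exact Subgroup.one_mem _
    · rw [h1]; exact h.a_mem_E

/-- `[X, E] ≤ V`, elementwise. -/
theorem comm_X_E (h : Pair Q Q1 a b) {x e : G} (hx : x ∈ Q ⊔ Q1) (he : e ∈ Q ⊓ Q1) :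
    x * e * x⁻¹ * e⁻¹ ∈ h.V := by
  refine sup_induction_left Q Q1 (fun x => x * e * x⁻¹ * e⁻¹ ∈ h.V) ?_ ?_ ?_ hx
  · show 1 * e * 1⁻¹ * e⁻¹ ∈ h.V
    have : 1 * e * 1⁻¹ * e⁻¹ = 1 := by group
    rw [this]; exact Subgroup.one_mem _
  · intro u hu x hx
    show u * x * e * (u * x)⁻¹ * e⁻¹ ∈ h.V
    have e1 : u * x * e * (u * x)⁻¹ * e⁻¹ = (u * (x * e * x⁻¹ * e⁻¹) * u⁻¹) * (u * e * u⁻¹ * e⁻¹) := by
      group
    rw [e1]
    refine Subgroup.mul_mem _ (h.Q_conj_V hu hx) ?_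
    rcases h.hQ.comm u hu e he.1 with h1 | h1
    · rw [h1]; exact Subgroup.one_mem _
    · rw [h1]; exact h.a_mem_V
  · intro u hu x hx
    show u * x * e * (u * x)⁻¹ * e⁻¹ ∈ h.V
    have e1 : u * x * e * (u * x)⁻¹ * e⁻¹ = (u * (x * e * x⁻¹ * e⁻¹) * u⁻¹) * (u * e * u⁻¹ * e⁻¹) := by
      group
    rw [e1]
    refine Subgroup.mul_mem _ (h.Q1_conj_V hu hx) ?_
    rcases h.hQ1.comm u hu e he.2 with h1 | h1
    · rw [h1]; exact Subgroup.one_mem _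
    · rw [h1]; exact h.b_mem_V

theorem V_le_R (h : Pair Q Q1 a b) : h.V ≤ pairR Q Q1 a b := by
  have ha : a ∈ pairR Q Q1 a b := h.E_le_R h.a_mem_E
  have hb : b ∈ pairR Q Q1 a b := h.E_le_R h.b_mem_E
  intro v hv
  rcases hv with hv | hv | hv | hv
  · rw [hv]; exact Subgroup.one_mem _
  · rw [hv]; exact ha
  · rw [hv]; exact hb
  · rw [hv]; exact Subgroup.mul_mem _ ha hb

/-- An element commuting with `q0` and centralizing `C_Q(b)` centralizes `Q`. -/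
theorem Gens.cent_of (h : Pair Q Q1 a b) {q0 y0 : G} (hg : Gens h q0 y0) {x : G}
    (hxq : x * q0 = q0 * x)
    (hxP : ∀ p ∈ Q ⊓ Subgroup.centralizer ({b} : Set G), x * p = p * x) : x = 1 ∨ x = a := by
  apply h.hQ.cent
  intro q hq
  rcases h.Q_decomp hg.q0Q hg.q0b hq with h1 | h1
  · exact (hxP q h1).symm
  · have h2 := hxP _ h1
    calc q * x = q0 * ((q0⁻¹ * q) * x) := by group
      _ = q0 * (x * (q0⁻¹ * q)) := by rw [h2]
      _ = (q0 * x) * (q0⁻¹ * q) := by group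
      _ = (x * q0) * (q0⁻¹ * q) := by rw [hxq]
      _ = x * q := by group

/-- An element centralizing `a` and `C_Q(b)` lies in `V`. -/
theorem cen_Pa_le (h : Pair Q Q1 a b) {x : G} (hxa : x * a = a * x)
    (hxP : ∀ p ∈ Q ⊓ Subgroup.centralizer ({b} : Set G), x * p = p * x) : x ∈ h.V := by
  obtain ⟨q0, y0, hg⟩ := h.exists_gens
  have hu0Q : q0⁻¹ * (x * q0 * x⁻¹) ∈ Q := Q.mul_mem (Q.inv_mem hg.q0Q) (h.hQ.norm x hxa q0 hg.q0Q)
  have hcen : ∀ p ∈ Q ⊓ Subgroup.centralizer ({b} : Set G),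
      p * (q0⁻¹ * (x * q0 * x⁻¹)) = (q0⁻¹ * (x * q0 * x⁻¹)) * p := by
    intro p hp
    have hxp : x⁻¹ * p = p * x⁻¹ := by
      have := hxP p hp
      calc x⁻¹ * p = x⁻¹ * (p * x) * x⁻¹ := by group
        _ = x⁻¹ * (x * p) * x⁻¹ := by rw [this]
        _ = p * x⁻¹ := by group
    have hxp' := hxP _ (h.Q_conj_Pa hg.q0Q hp)
    symm
    calc q0⁻¹ * (x * q0 * x⁻¹) * p = q0⁻¹ * x * q0 * (x⁻¹ * p) := by group
      _ = q0⁻¹ * x * q0 * (p * x⁻¹) := by rw [hxp]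
      _ = q0⁻¹ * (x * (q0 * p * q0⁻¹)) * q0 * x⁻¹ := by group
      _ = q0⁻¹ * ((q0 * p * q0⁻¹) * x) * q0 * x⁻¹ := by rw [hxp']
      _ = p * (q0⁻¹ * (x * q0 * x⁻¹)) := by group
  have hu : q0⁻¹ * (x * q0 * x⁻¹) = 1 ∨ q0⁻¹ * (x * q0 * x⁻¹) = a ∨
      q0⁻¹ * (x * q0 * x⁻¹) = b ∨ q0⁻¹ * (x * q0 * x⁻¹) = a * b := by
    have hES := h.hQ.esType
    have hP : ∀ p : ↥Q, p * (⟨b, h.bQ⟩ : ↥Q) = ⟨b, h.bQ⟩ * p →
        p * (⟨q0⁻¹ * (x * q0 * x⁻¹), hu0Q⟩ : ↥Q) = ⟨q0⁻¹ * (x * q0 * x⁻¹), hu0Q⟩ * p := by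
      intro p hp
      apply Subtype.ext
      have hpb : (p : G) * b = b * p := congrArg Subtype.val hp
      exact hcen p (mem_inf_centralizer_singleton.mpr ⟨p.2, hpb⟩)
    rcases hES.center_centralizer ⟨b, h.bQ⟩ ⟨_, hu0Q⟩ hP with h1 | h1
    · rcases hES.cen _ h1 with h2 | h2
      · exact Or.inl (congrArg Subtype.val h2)
      · exact Or.inr (Or.inl (congrArg Subtype.val h2))
    · rcases hES.cen _ h1 with h2 | h2
      · right; right; left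
        have h3 : q0⁻¹ * (x * q0 * x⁻¹) * b = 1 := congrArg Subtype.val h2
        have e : q0⁻¹ * (x * q0 * x⁻¹) = q0⁻¹ * (x * q0 * x⁻¹) * b * b⁻¹ := by group
        rw [e, h3, one_mul, h.b_inv]
      · right; right; right
        have h3 : q0⁻¹ * (x * q0 * x⁻¹) * b = a := congrArg Subtype.val h2
        have e : q0⁻¹ * (x * q0 * x⁻¹) = q0⁻¹ * (x * q0 * x⁻¹) * b * b⁻¹ := by group
        rw [e, h3, h.b_inv]
  -- the square of q0 is fixed by x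
  have hsq : x * (q0 * q0) = (q0 * q0) * x := hxP _ hg.q_sq_mem
  have hinv : ∀ u : G, q0⁻¹ * (x * q0 * x⁻¹) = u → q0⁻¹ * u * q0 = u⁻¹ := by
    intro u hu
    have h1 : x * q0 * x⁻¹ = q0 * u := by rw [← hu]; group
    have h2 : q0 * u * (q0 * u) = q0 * q0 := by
      rw [← h1]
      calc x * q0 * x⁻¹ * (x * q0 * x⁻¹) = x * (q0 * q0) * x⁻¹ := by group
        _ = (q0 * q0) * x * x⁻¹ := by rw [hsq]
        _ = q0 * q0 := by group
    have h3 : u * q0 * u = q0 := by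
      have : q0 * (u * q0 * u) = q0 * q0 := by rw [← h2]; group
      exact mul_left_cancel this
    calc q0⁻¹ * u * q0 = q0⁻¹ * (u * q0 * u) * u⁻¹ := by group
      _ = q0⁻¹ * q0 * u⁻¹ := by rw [h3]
      _ = u⁻¹ := by group
  rcases hu with h1 | h1 | h1 | h1
  · -- x commutes with q0
    have hxq : x * q0 = q0 * x := by
      have : x * q0 * x⁻¹ = q0 := by
        have e : x * q0 * x⁻¹ = q0 * (q0⁻¹ * (x * q0 * x⁻¹)) := by group
        rw [e, h1, mul_one]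
      exact comm_of_conj_eq this
    rcases hg.cent_of h hxq hxP with h2 | h2
    · rw [h2]; exact Subgroup.one_mem _
    · rw [h2]; exact h.a_mem_V
  · -- x * b commutes with q0
    have hxq0 : x * q0 * x⁻¹ = q0 * a := by
      have e : x * q0 * x⁻¹ = q0 * (q0⁻¹ * (x * q0 * x⁻¹)) := by group
      rw [e, h1]
    have hxbq : (x * b) * q0 = q0 * (x * b) := by
      apply comm_of_conj_eq
      have e : (x * b) * q0 * (x * b)⁻¹ = (x * q0 * x⁻¹) * (x * ((q0⁻¹ * b * q0) * b⁻¹) * x⁻¹) := by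
        group
      rw [e, hxq0, hg.qi_b]
      have e2 : a * b * b⁻¹ = a := by group
      rw [e2, conj_eq_of_comm hxa, mul_assoc, h.a_sq, mul_one]
    have hxbP : ∀ p ∈ Q ⊓ Subgroup.centralizer ({b} : Set G), (x * b) * p = p * (x * b) := by
      intro p hp
      have hpb := (mem_inf_centralizer_singleton.mp hp).2
      calc x * b * p = x * (b * p) := by group
        _ = x * (p * b) := by rw [hpb]
        _ = (x * p) * b := by group
        _ = (p * x) * b := by rw [hxP p hp]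
        _ = p * (x * b) := by group
    have ex : x = (x * b) * b := by rw [mul_assoc, h.b_sq, mul_one]
    rcases hg.cent_of h hxbq hxbP with h2 | h2
    · rw [ex, h2, one_mul]; exact h.b_mem_V
    · rw [ex, h2]; exact h.ab_mem_V
  · exfalso
    have h2 := hinv b h1
    rw [hg.qi_b, h.b_inv] at h2
    exact h.ab_ne_b h2
  · exfalso
    have h2 := hinv (a * b) h1
    rw [hg.qi_ab, mul_inv_rev, h.a_inv, h.b_inv, ← h.ab_comm] at h2
    exact h.ab_ne_b h2.symm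

theorem center_R (h : Pair Q Q1 a b) :
    (Subgroup.center ↥(pairR Q Q1 a b)).map (pairR Q Q1 a b).subtype = h.V := by
  ext x
  rw [mem_center_map_iff]
  constructor
  · rintro ⟨hxR, hxc⟩
    exact h.cen_Pa_le (h.R_comm_a hxR) (fun p hp => (hxc p (Pa_le_R hp)).symm)
  · intro hx
    exact ⟨h.V_le_R hx, fun r hr => h.comm_V_of (h.R_comm_a hr) (h.R_comm_b hr) x hx⟩

theorem mem_ucs_two (h : Pair Q Q1 a b) (e : ↥(pairR Q Q1 a b)) (he : (e : G) ∈ Q ⊓ Q1) :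
    e ∈ Subgroup.upperCentralSeries ↥(pairR Q Q1 a b) 2 := by
  rw [show (2 : ℕ) = 1 + 1 from rfl, Subgroup.mem_upperCentralSeries_succ_iff]
  intro y
  rw [Subgroup.upperCentralSeries_one, Subgroup.mem_center_iff]
  intro r
  apply Subtype.ext
  show (r : G) * ((e : G) * y * (e : G)⁻¹ * (y : G)⁻¹) = (e : G) * y * (e : G)⁻¹ * (y : G)⁻¹ * r
  have hmem : (e : G) * y * (e : G)⁻¹ * (y : G)⁻¹ ∈ h.V := by
    have e1 : (e : G) * y * (e : G)⁻¹ * (y : G)⁻¹ = ((y : G) * e * (y : G)⁻¹ * (e : G)⁻¹)⁻¹ := by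
      group
    rw [e1]
    exact Subgroup.inv_mem _ (h.comm_X_E (h.R_le_X y.2) he)
  exact h.comm_V_of (h.R_comm_a r.2) (h.R_comm_b r.2) _ hmem

theorem E_le_ucs_two (h : Pair Q Q1 a b) :
    Q ⊓ Q1 ≤ (Subgroup.upperCentralSeries ↥(pairR Q Q1 a b) 2).map (pairR Q Q1 a b).subtype := by
  intro e he
  exact Subgroup.mem_map.mpr ⟨⟨e, h.E_le_R he⟩, h.mem_ucs_two ⟨e, h.E_le_R he⟩ he, rfl⟩

theorem ucs_three (h : Pair Q Q1 a b) :
    Subgroup.upperCentralSeries ↥(pairR Q Q1 a b) 3 = ⊤ := by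
  rw [eq_top_iff]
  intro x _
  rw [show (3 : ℕ) = 2 + 1 from rfl, Subgroup.mem_upperCentralSeries_succ_iff]
  intro y
  apply h.mem_ucs_two
  show (x : G) * y * (x : G)⁻¹ * (y : G)⁻¹ ∈ Q ⊓ Q1
  exact h.R_comm_mem x.2 y.2

end Pair

end Cfsg.Agent.Helper90
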