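import Mathlib
import Cfsg.Agent.Helper90.LESPairR
import Cfsg.Agent.Helper22.Bender
import Cfsg.Agent.Helper29.Fitting
import Cfsg.Agent.S5421
import Cfsg.Agent.S5433

/-!
Helper90: the setting `F*(C_G(z)) = Q` extraspecial.  Largeness of `Q` when `z` is not weakly
closed in `Q`, and a simplicity criterion for groups with a large extraspecial subgroup.
-/

set_option autoImplicit false

namespace Cfsg.Agent.Helper90

/-- From the elementwise data: the pair attached to a conjugate of `z` in `Q` other than `z`. -/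
theorem pair_of_les {G : Type*} [Group G] {Q : Subgroup G} {z : G} (hLES : LES Q z) [Finite Q]
    (hc8 : 8 < Nat.card ↥Q) (g : G) (hgQ : g * z * g⁻¹ ∈ Q) (hbz : g * z * g⁻¹ ≠ z) :
    Pair Q (Q.map (MulAut.conj g).toMonoidHom) z (g * z * g⁻¹) := by
  have hQ1 := hLES.conj g
  have hlink : ∀ n : G, n * z * n⁻¹ = g * z * g⁻¹ → ∀ q ∈ Q,
      n * q * n⁻¹ ∈ Q.map (MulAut.conj g).toMonoidHom := by
    intro n hn q hq
    rw [mem_map_conj_iff]
    have h1 : (g⁻¹ * n) * z = z * (g⁻¹ * n) := by
      have e : (g⁻¹ * n) * z = g⁻¹ * (n * z * n⁻¹) * n := by group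
      rw [e, hn]; group
    have h2 := hLES.norm _ h1 q hq
    have e2 : g⁻¹ * n * q * (g⁻¹ * n)⁻¹ = g⁻¹ * (n * q * n⁻¹) * g := by group
    rwa [e2] at h2
  have hnonab := hLES.exists_noncomm hc8 hgQ hQ1.sq hQ1.ne_one hbz
  have hzQ1 : z ∈ Q.map (MulAut.conj g).toMonoidHom :=
    hLES.center_mem_conj hQ1 hgQ hbz hlink hnonab
  exact pair_of_conj hLES g hgQ hbz hzQ1

/-- In the setting `F*(C_G(z)) = Q` extraspecial: the hypotheses (L1)-(L3) hold, with centre
generated by `z`. -/
theorem fstar_setting {G : Type*} [Group G] [Finite G] (z : G) (hz : orderOf z = 2)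
    (Q : Subgroup G)
    (hF : (Cfsg.generalizedFittingSubgroup ↥(Subgroup.centralizer ({z} : Set G))).map
      (Subgroup.centralizer ({z} : Set G)).subtype = Q)
    (hQ : Cfsg.IsExtraspecial 2 ↥Q) :
    Subgroup.centralizer (Q : Set G) = (Subgroup.center ↥Q).map Q.subtype ∧
    Subgroup.centralizer (((Subgroup.center ↥Q).map Q.subtype : Subgroup G) : Set G) ≤
      Subgroup.normalizer (Q : Set G) ∧
    LES Q z ∧ z ∈ (Subgroup.center ↥Q).map Q.subtype ∧
    (∀ c ∈ (Subgroup.center ↥Q).map Q.subtype, c = 1 ∨ c = z) ∧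
    Q ≤ Subgroup.centralizer ({z} : Set G) := by
  classical
  have hz1 : z ≠ 1 := by
    intro h
    rw [h, orderOf_one] at hz
    norm_num at hz
  have hmemC : ∀ x : G, x ∈ Subgroup.centralizer ({z} : Set G) ↔ x * z = z * x := by
    intro x
    rw [Subgroup.mem_centralizer_iff]
    constructor
    · intro h; exact (h z rfl).symm
    · intro h y hy; rw [Set.mem_singleton_iff.mp hy]; exact h.symm
  have hzC : z ∈ Subgroup.centralizer ({z} : Set G) := (hmemC z).mpr rfl
  have hQC : Q ≤ Subgroup.centralizer ({z} : Set G) := by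
    rw [← hF]; exact Subgroup.map_subtype_le _
  have hmemQ : ∀ x : G, x ∈ Q ↔ ∃ hx : x ∈ Subgroup.centralizer ({z} : Set G),
      (⟨x, hx⟩ : ↥(Subgroup.centralizer ({z} : Set G))) ∈
        Cfsg.generalizedFittingSubgroup ↥(Subgroup.centralizer ({z} : Set G)) := by
    intro x
    rw [← hF]
    constructor
    · rintro ⟨y, hy, rfl⟩; exact ⟨y.2, hy⟩
    · rintro ⟨hx, h⟩; exact ⟨⟨x, hx⟩, h, rfl⟩
  have hzQ : z ∈ Q := by
    rw [hmemQ]
    refine ⟨hzC, ?_⟩
    apply Cfsg.Agent.Helper29.fittingSubgroup_le_generalizedFittingSubgroup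
    apply Cfsg.Agent.Helper29.mem_fittingSubgroup_of_mem_center
    rw [Subgroup.mem_center_iff]
    intro c
    apply Subtype.ext
    exact (hmemC c).mp c.2
  have hzZ : z ∈ (Subgroup.center ↥Q).map Q.subtype :=
    (mem_center_map_iff Q z).mpr ⟨hzQ, fun q hq => (hmemC q).mp (hQC hq)⟩
  have hL2 : Subgroup.centralizer (Q : Set G) = (Subgroup.center ↥Q).map Q.subtype := by
    apply le_antisymm
    · intro x hx
      rw [Subgroup.mem_centralizer_iff] at hx
      have hxC : x ∈ Subgroup.centralizer ({z} : Set G) := (hmemC x).mpr (hx z hzQ).symm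
      have hxF : (⟨x, hxC⟩ : ↥(Subgroup.centralizer ({z} : Set G))) ∈
          Cfsg.generalizedFittingSubgroup ↥(Subgroup.centralizer ({z} : Set G)) := by
        apply Cfsg.Agent.Helper22.centralizer_generalizedFittingSubgroup_le
        rw [Subgroup.mem_centralizer_iff]
        intro f hf
        apply Subtype.ext
        exact hx f.1 ((hmemQ f.1).mpr ⟨f.2, hf⟩)
      have hxQ : x ∈ Q := (hmemQ x).mpr ⟨hxC, hxF⟩
      exact (mem_center_map_iff Q x).mpr ⟨hxQ, fun q hq => hx q hq⟩
    · intro x hx
      rw [Subgroup.mem_centralizer_iff]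
      exact fun q hq => ((mem_center_map_iff Q x).mp hx).2 q hq
  have hL3 : Subgroup.centralizer (((Subgroup.center ↥Q).map Q.subtype : Subgroup G) : Set G) ≤
      Subgroup.normalizer (Q : Set G) := by
    intro x hx
    rw [Subgroup.mem_centralizer_iff] at hx
    have hxC : x ∈ Subgroup.centralizer ({z} : Set G) := (hmemC x).mpr (hx z hzZ).symm
    have hFn := Cfsg.Agent.Helper29.generalizedFittingSubgroup_normal
      ↥(Subgroup.centralizer ({z} : Set G))
    apply mem_normalizer_of_conj
    · intro v hv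
      obtain ⟨hvC, hvF⟩ := (hmemQ v).mp hv
      exact (hmemQ _).mpr ⟨(Subgroup.centralizer ({z} : Set G)).mul_mem
        ((Subgroup.centralizer ({z} : Set G)).mul_mem hxC hvC)
        ((Subgroup.centralizer ({z} : Set G)).inv_mem hxC), hFn.conj_mem _ hvF ⟨x, hxC⟩⟩
    · intro v hv
      obtain ⟨hvC, hvF⟩ := (hmemQ v).mp hv
      have h1 := hFn.conj_mem _ hvF (⟨x, hxC⟩ : ↥(Subgroup.centralizer ({z} : Set G)))⁻¹
      rw [inv_inv] at h1
      exact (hmemQ _).mpr ⟨(Subgroup.centralizer ({z} : Set G)).mul_mem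
        ((Subgroup.centralizer ({z} : Set G)).mul_mem
          ((Subgroup.centralizer ({z} : Set G)).inv_mem hxC) hvC) hxC, h1⟩
  obtain ⟨z', hLES, hz'Z, hzall⟩ := exists_LES Q hQ hL2 hL3
  have hzz' : z = z' := (hzall z hzZ).resolve_left hz1
  subst hzz'
  exact ⟨hL2, hL3, hLES, hzZ, hzall, hQC⟩

/-- In the setting `F*(C_G(z)) = Q` extraspecial of width at least 2: if `z` is not weakly closed
in `Q`, then `Q` is a large extraspecial 2-subgroup. -/
theorem large_of_fstar {G : Type*} [Group G] [Finite G] (z : G) (hz : orderOf z = 2)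
    (Q : Subgroup G)
    (hF : (Cfsg.generalizedFittingSubgroup ↥(Subgroup.centralizer ({z} : Set G))).map
      (Subgroup.centralizer ({z} : Set G)).subtype = Q)
    (hQ : Cfsg.IsExtraspecial 2 ↥Q) (w : ℕ) (hw : 2 ≤ w)
    (hcard : Nat.card ↥Q = 2 ^ (2 * w + 1)) (g : G) (hgQ : g * z * g⁻¹ ∈ Q)
    (hbz : g * z * g⁻¹ ≠ z) : Cfsg.IsLargeExtraspecial Q := by
  obtain ⟨hL2, hL3, hLES, hzZ, hzall, hQC⟩ := fstar_setting z hz Q hF hQ
  have hc8 : 8 < Nat.card ↥Q := by
    rw [hcard]
    calc 8 < 2 ^ 5 := by norm_num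
      _ ≤ 2 ^ (2 * w + 1) := Nat.pow_le_pow_right (by norm_num) (by omega)
  have hpair := pair_of_les hLES hc8 g hgQ hbz
  have hQ2 : IsPGroup 2 ↥Q := hQ.1.1
  have hp : Fact (Nat.Prime 2) := ⟨Nat.prime_two⟩
  refine Cfsg.Agent.S5421.result Q hQ hL2 hL3 (g * z * g⁻¹) hgQ ?_ ?_ ?_
  · intro hb
    rcases hzall _ hb with h | h
    · exact hpair.hQ1.ne_one h
    · exact hbz h
  · apply orderOf_eq_prime
    · rw [pow_two]; exact hpair.hQ1.sq
    · exact hpair.hQ1.ne_one
  · intro c hc
    have hzmem : z ∈ (Cfsg.pCore 2 ↥(Subgroup.centralizer ({g * z * g⁻¹} : Set G))).map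
        (Subgroup.centralizer ({g * z * g⁻¹} : Set G)).subtype := by
      have hzQ1 : z ∈ Q.map (MulAut.conj g).toMonoidHom := hpair.aQ1
      have hQ1Cb : Q.map (MulAut.conj g).toMonoidHom ≤
          Subgroup.centralizer ({g * z * g⁻¹} : Set G) := by
        intro q hq
        rw [Subgroup.mem_centralizer_iff]
        intro y hy
        rw [Set.mem_singleton_iff.mp hy]
        exact (hpair.hQ1.central q hq).symm
      have hnorm : ((Q.map (MulAut.conj g).toMonoidHom).subgroupOf
          (Subgroup.centralizer ({g * z * g⁻¹} : Set G))).Normal := by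
        constructor
        intro n hn x
        rw [Subgroup.mem_subgroupOf] at hn ⊢
        have hx : (x : G) * (g * z * g⁻¹) = (g * z * g⁻¹) * x := by
          have h1 := Subgroup.mem_centralizer_iff.mp x.2 (g * z * g⁻¹) rfl
          exact h1.symm
        exact hpair.hQ1.norm x hx n hn
      have hpg : IsPGroup 2 ↥((Q.map (MulAut.conj g).toMonoidHom).subgroupOf
          (Subgroup.centralizer ({g * z * g⁻¹} : Set G))) :=
        (hQ2.map _).comap_subtype
      have hle : (Q.map (MulAut.conj g).toMonoidHom).subgroupOf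
          (Subgroup.centralizer ({g * z * g⁻¹} : Set G)) ≤
          Cfsg.pCore 2 ↥(Subgroup.centralizer ({g * z * g⁻¹} : Set G)) :=
        le_sSup ⟨hnorm, hpg⟩
      exact Subgroup.mem_map.mpr ⟨⟨z, hQ1Cb hzQ1⟩, hle (Subgroup.mem_subgroupOf.mpr hzQ1), rfl⟩
    rcases hzall c hc with h | h
    · rw [h]; exact Subgroup.one_mem _
    · rw [h]; exact hzmem

/-- A simplicity criterion: if `Q` is a large extraspecial 2-subgroup with centre generated by `z`
and every normal subgroup containing `z` contains the centralizer of `z`, then the group is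
simple. -/
theorem isSimpleGroup_of_large {G : Type*} [Group G] [Finite G] (Q : Subgroup G)
    (hQ : Cfsg.IsLargeExtraspecial Q) (z : G) (hLES : LES Q z)
    (h : ∀ N : Subgroup G, N.Normal → z ∈ N → Subgroup.centralizer ({z} : Set G) ≤ N) :
    IsSimpleGroup G := by
  have hnt : Nontrivial G := ⟨⟨z, 1, hLES.ne_one⟩⟩
  have hmemC : ∀ x : G, x ∈ Subgroup.centralizer ({z} : Set G) ↔ x * z = z * x := by
    intro x
    rw [Subgroup.mem_centralizer_iff]
    constructor
    · intro h; exact (h z rfl).symm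
    · intro h y hy; rw [Set.mem_singleton_iff.mp hy]; exact h.symm
  have hzinv : z⁻¹ = z := hLES.inv_eq
  refine { toNontrivial := hnt, eq_bot_or_eq_top_of_normal := ?_ }
  intro N hN
  by_cases hzN : z ∈ N
  · right
    have hCN := h N hN hzN
    have hQN : Q ≤ N := fun q hq => hCN ((hmemC q).mpr (hLES.central q hq))
    have hNQ : Subgroup.normalizer (Q : Set G) ≤ N := by
      intro n hn
      apply hCN
      rw [hmemC]
      have hn1 : ∀ q ∈ Q, n * q * n⁻¹ ∈ Q := fun q hq => conj_mem_of_mem_normalizer hn hq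
      have hn2 : ∀ q ∈ Q, n⁻¹ * q * n ∈ Q := by
        intro q hq
        have h1 := conj_mem_of_mem_normalizer (inv_mem hn) hq
        rwa [inv_inv] at h1
      have h1 : ∀ q ∈ Q, q * (n * z * n⁻¹) = (n * z * n⁻¹) * q := by
        intro q hq
        have h2 := hLES.central _ (hn2 q hq)
        calc q * (n * z * n⁻¹) = n * ((n⁻¹ * q * n) * z) * n⁻¹ := by group
          _ = n * (z * (n⁻¹ * q * n)) * n⁻¹ := by rw [h2]
          _ = (n * z * n⁻¹) * q := by group
      rcases hLES.cent _ h1 with h3 | h3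
      · exfalso
        apply hLES.ne_one
        have h4 : z = n⁻¹ * (n * z * n⁻¹) * n := by group
        rw [h4, h3]; group
      · calc n * z = n * z * n⁻¹ * n := by group
          _ = z * n := by rw [h3]
    have h1 := @Cfsg.Agent.S5433.result G _ _ Q hQ N hN hQN
    rw [← h1]
    exact (sup_eq_left.mpr hNQ).symm
  · left
    have hNQ : ∀ x ∈ N, x ∈ Q → x = 1 := by
      intro x hxN hxQ
      by_contra hx1
      apply hzN
      by_cases hxz : x = z
      · rw [← hxz]; exact hxN
      · obtain ⟨q, hq, hqx⟩ := hLES.exists_conj hxQ hx1 hxz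
        have h1 : z = (q * x * q⁻¹) * x⁻¹ := by rw [hqx]; group
        rw [h1]
        exact N.mul_mem (hN.conj_mem x hxN q) (N.inv_mem hxN)
    have hCN : ∀ n ∈ N, n * z = z * n → n = 1 := by
      intro n hn hnz
      apply hNQ n hn
      have hcen : ∀ q ∈ Q, q * n = n * q := by
        intro q hq
        have h1 : n * q * n⁻¹ ∈ Q := hLES.norm n hnz q hq
        have h2 : n * q * n⁻¹ * q⁻¹ ∈ N := by
          have h3 : n * q * n⁻¹ * q⁻¹ = n * (q * n⁻¹ * q⁻¹) := by group
          rw [h3]
          exact N.mul_mem hn (hN.conj_mem n⁻¹ (N.inv_mem hn) q)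
        have h3 := hNQ _ h2 (Q.mul_mem h1 (Q.inv_mem hq))
        calc q * n = (n * q * n⁻¹ * q⁻¹)⁻¹ * (n * q) := by group
          _ = n * q := by rw [h3, inv_one, one_mul]
      rcases hLES.cent n hcen with h4 | h4
      · rw [h4]; exact Q.one_mem
      · rw [h4]; exact hLES.mem
    let φ : ↥N →* ↥N :=
      { toFun := fun n => ⟨z * n * z⁻¹, hN.conj_mem n n.2 z⟩
        map_one' := by
          apply Subtype.ext
          show z * (1 : G) * z⁻¹ = 1
          group
        map_mul' := by
          intro a b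
          apply Subtype.ext
          show z * ((a : G) * b) * z⁻¹ = z * a * z⁻¹ * (z * b * z⁻¹)
          group }
    have hfpf : MonoidHom.FixedPointFree φ := by
      intro n hn
      have h1 : z * (n : G) * z⁻¹ = n := congrArg Subtype.val hn
      apply Subtype.ext
      apply hCN n n.2
      calc (n : G) * z = (z * n * z⁻¹) * z := by rw [h1]
        _ = z * n := by group
    have hinv : Function.Involutive φ := by
      intro n
      apply Subtype.ext
      show z * (z * (n : G) * z⁻¹) * z⁻¹ = n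
      rw [hzinv]
      calc z * (z * (n : G) * z) * z = (z * z) * n * (z * z) := by group
        _ = n := by rw [hLES.sq, one_mul, mul_one]
    have hodd : Odd (Nat.card ↥N) := hfpf.odd_card_of_involutive hinv
    refine hQ.2.2.2 N hodd ?_
    intro q _
    rw [Subgroup.normalizer_eq_top]
    exact Subgroup.mem_top q

/-- Transfer of extraspeciality along a group isomorphism. -/
theorem isExtraspecial_of_equiv {H K : Type*} [Group H] [Group K] {p : ℕ} (e : H ≃* K)
    (h : Cfsg.IsExtraspecial p H) : Cfsg.IsExtraspecial p K := by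
  obtain ⟨⟨hp, hf, hc⟩, hz⟩ := h
  have hfr : frattini K = (frattini H).map e.toMonoidHom := (e.mapSubgroup.map_radical).symm
  have hce : Subgroup.center K = (Subgroup.center H).map e.toMonoidHom := by
    ext x
    constructor
    · intro hx
      refine ⟨e.symm x, ?_, by simp⟩
      show e.symm x ∈ Subgroup.center H
      rw [Subgroup.mem_center_iff]
      intro g
      apply e.injective
      rw [map_mul, map_mul, e.apply_symm_apply]
      exact Subgroup.mem_center_iff.mp hx (e g)
    · rintro ⟨y, hy, rfl⟩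
      have hy' : y ∈ Subgroup.center H := hy
      rw [Subgroup.mem_center_iff]
      intro k
      have h1 := Subgroup.mem_center_iff.mp hy' (e.symm k)
      have h2 := congrArg e h1
      rw [map_mul, map_mul, e.apply_symm_apply] at h2
      exact h2
  have hco : commutator K = (commutator H).map e.toMonoidHom := by
    rw [commutator_def, commutator_def, Subgroup.map_commutator,
      Subgroup.map_top_of_surjective e.toMonoidHom e.surjective]
  refine ⟨⟨hp.of_equiv e, ?_, ?_⟩, ?_⟩
  · rw [hfr, hce, hf]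
  · rw [hco, hce, hc]
  · rw [hce, Subgroup.card_map_of_injective e.injective]; exact hz

end Cfsg.Agent.Helper90
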