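import Mathlib
import Cfsg.Agent.Helper48.CharPLocal

/-!
Helper90: the centralizer of a transvection in `SL(n, F)`, `F` a field with two elements.

* `slMulVec_*`: the action of `SL(n, F)` on column vectors.
* `rowGroup i`: the matrices `g` with `g e_i = e_i` and `(g - 1) V ≤ ⟨e_i⟩`.
* `fstar_centralizer_transvection`: `F*(C(t)) = O_2(C(t))` for a transvection `t`.
-/

set_option autoImplicit false

namespace Cfsg.Agent.Helper90

open Matrix

section
variable {F : Type*} [Field F] {n : ℕ}

theorem slMulVec_mul (g h : Matrix.SpecialLinearGroup (Fin n) F) (v : Fin n → F) :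
    ((g * h : Matrix.SpecialLinearGroup (Fin n) F) : Matrix (Fin n) (Fin n) F).mulVec v =
      (g : Matrix (Fin n) (Fin n) F).mulVec ((h : Matrix (Fin n) (Fin n) F).mulVec v) := by
  rw [Matrix.SpecialLinearGroup.coe_mul, Matrix.mulVec_mulVec]

theorem slMulVec_one (v : Fin n → F) :
    ((1 : Matrix.SpecialLinearGroup (Fin n) F) : Matrix (Fin n) (Fin n) F).mulVec v = v := by
  rw [Matrix.SpecialLinearGroup.coe_one, Matrix.one_mulVec]

theorem slMulVec_inv (g : Matrix.SpecialLinearGroup (Fin n) F) (v : Fin n → F) :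
    ((g⁻¹ : Matrix.SpecialLinearGroup (Fin n) F) : Matrix (Fin n) (Fin n) F).mulVec
      ((g : Matrix (Fin n) (Fin n) F).mulVec v) = v := by
  rw [← slMulVec_mul, inv_mul_cancel, slMulVec_one]

theorem slMulVec_inv' (g : Matrix.SpecialLinearGroup (Fin n) F) (v : Fin n → F) :
    (g : Matrix (Fin n) (Fin n) F).mulVec
      (((g⁻¹ : Matrix.SpecialLinearGroup (Fin n) F) : Matrix (Fin n) (Fin n) F).mulVec v) = v := by
  rw [← slMulVec_mul, mul_inv_cancel, slMulVec_one]

theorem sl_ext_mulVec {g h : Matrix.SpecialLinearGroup (Fin n) F}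
    (H : ∀ v : Fin n → F, (g : Matrix (Fin n) (Fin n) F).mulVec v =
      (h : Matrix (Fin n) (Fin n) F).mulVec v) : g = h :=
  Subtype.ext (Matrix.mulVec_injective (funext H))

theorem transvection_mulVec (i j : Fin n) (v : Fin n → F) :
    (Matrix.transvection i j (1 : F)).mulVec v = v + v j • (Pi.single i (1 : F) : Fin n → F) := by
  rw [Matrix.transvection, Matrix.add_mulVec, Matrix.one_mulVec, Matrix.single_mulVec_eq, one_mul]

/-- The group of matrices fixing `e_i` and acting trivially modulo `e_i`. -/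
def rowGroup (F : Type*) [Field F] {n : ℕ} (i : Fin n) :
    Subgroup (Matrix.SpecialLinearGroup (Fin n) F) where
  carrier := {g | (g : Matrix (Fin n) (Fin n) F).mulVec (Pi.single i (1 : F)) = Pi.single i 1 ∧
    ∀ v : Fin n → F, ∃ c : F, (g : Matrix (Fin n) (Fin n) F).mulVec v =
      v + c • (Pi.single i (1 : F) : Fin n → F)}
  one_mem' := ⟨slMulVec_one _, fun v => ⟨0, by rw [slMulVec_one, zero_smul, add_zero]⟩⟩
  mul_mem' := by
    rintro g h ⟨hg1, hg2⟩ ⟨hh1, hh2⟩
    refine ⟨by rw [slMulVec_mul, hh1, hg1], fun v => ?_⟩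
    obtain ⟨c, hc⟩ := hh2 v
    obtain ⟨d, hd⟩ := hg2 v
    refine ⟨d + c, ?_⟩
    rw [slMulVec_mul, hc, Matrix.mulVec_add, Matrix.mulVec_smul, hg1, hd, add_smul, add_assoc]
  inv_mem' := by
    rintro g ⟨hg1, hg2⟩
    have h1 : ((g⁻¹ : Matrix.SpecialLinearGroup (Fin n) F) : Matrix (Fin n) (Fin n) F).mulVec
        (Pi.single i (1 : F)) = Pi.single i 1 := by
      have h := slMulVec_inv g (Pi.single i (1 : F))
      rwa [hg1] at h
    refine ⟨h1, fun v => ?_⟩
    obtain ⟨c, hc⟩ := hg2 v
    refine ⟨-c, ?_⟩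
    have h := slMulVec_inv g v
    rw [hc, Matrix.mulVec_add, Matrix.mulVec_smul, h1] at h
    rw [neg_smul, ← sub_eq_add_neg, eq_sub_iff_add_eq]
    exact h

theorem mem_rowGroup {i : Fin n} {g : Matrix.SpecialLinearGroup (Fin n) F} :
    g ∈ rowGroup F i ↔
      (g : Matrix (Fin n) (Fin n) F).mulVec (Pi.single i (1 : F)) = Pi.single i 1 ∧
      ∀ v : Fin n → F, ∃ c : F, (g : Matrix (Fin n) (Fin n) F).mulVec v =
        v + c • (Pi.single i (1 : F) : Fin n → F) := Iff.rfl

end

section
variable {F : Type*} [Field F] [Fintype F] {n : ℕ}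

theorem field_two_cases (hF : Fintype.card F = 2) (x : F) : x = 0 ∨ x = 1 := by
  classical
  by_contra hx
  push Not at hx
  have hc : ({0, 1, x} : Finset F).card = 3 := by
    rw [Finset.card_insert_of_notMem, Finset.card_insert_of_notMem, Finset.card_singleton]
    · rw [Finset.mem_singleton]
      exact fun h => hx.2 h.symm
    · rw [Finset.mem_insert, Finset.mem_singleton]
      rintro (h | h)
      · exact zero_ne_one h
      · exact hx.1 h.symm
  have h3 := Finset.card_le_univ ({0, 1, x} : Finset F)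
  omega

theorem field_two_add (hF : Fintype.card F = 2) : (1 : F) + 1 = 0 := by
  rcases field_two_cases hF ((1 : F) + 1) with h | h
  · exact h
  · exfalso
    have h' : (1 : F) + 1 = 1 + 0 := by rw [h, add_zero]
    exact one_ne_zero (add_left_cancel h')

/-- **The centralizer of a transvection over the field with two elements has characteristic 2.** -/
theorem fstar_centralizer_transvection (hF : Fintype.card F = 2) (i j : Fin n) (hij : i ≠ j)
    (t : Matrix.SpecialLinearGroup (Fin n) F)
    (ht : (t : Matrix (Fin n) (Fin n) F) = Matrix.transvection i j 1) :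
    Cfsg.generalizedFittingSubgroup
        ↥(Subgroup.centralizer ({t} : Set (Matrix.SpecialLinearGroup (Fin n) F))) =
      Cfsg.pCore 2 ↥(Subgroup.centralizer ({t} : Set (Matrix.SpecialLinearGroup (Fin n) F))) := by
  classical
  have hp : Fact (Nat.Prime 2) := ⟨Nat.prime_two⟩
  have h01 := field_two_cases hF
  have h2 := field_two_add hF
  have hcc : ∀ c : F, c + c = 0 := fun c => by
    calc c + c = c * (1 + 1) := by ring
      _ = 0 := by rw [h2, mul_zero]
  have htv : ∀ v : Fin n → F, (t : Matrix (Fin n) (Fin n) F).mulVec v =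
      v + v j • (Pi.single i (1 : F) : Fin n → F) := fun v => by rw [ht, transvection_mulVec]
  have hei : (Pi.single i (1 : F) : Fin n → F) j = 0 := Pi.single_eq_of_ne hij.symm 1
  -- elements of the centralizer fix `e_i`
  have hCe : ∀ c ∈ Subgroup.centralizer ({t} : Set (Matrix.SpecialLinearGroup (Fin n) F)),
      (c : Matrix (Fin n) (Fin n) F).mulVec (Pi.single i (1 : F)) = Pi.single i 1 := by
    intro c hc
    have hct : t * c = c * t := Subgroup.mem_centralizer_iff.mp hc t rfl
    have h1 : (t : Matrix (Fin n) (Fin n) F).mulVec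
        ((c : Matrix (Fin n) (Fin n) F).mulVec (Pi.single j (1 : F))) =
        (c : Matrix (Fin n) (Fin n) F).mulVec
          ((t : Matrix (Fin n) (Fin n) F).mulVec (Pi.single j (1 : F))) := by
      rw [← slMulVec_mul, ← slMulVec_mul, hct]
    rw [htv, htv, Pi.single_eq_same, one_smul, Matrix.mulVec_add] at h1
    have h3 : (c : Matrix (Fin n) (Fin n) F).mulVec (Pi.single i (1 : F)) =
        ((c : Matrix (Fin n) (Fin n) F).mulVec (Pi.single j (1 : F))) j •
          (Pi.single i (1 : F) : Fin n → F) := (add_left_cancel h1).symm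
    rcases h01 (((c : Matrix (Fin n) (Fin n) F).mulVec (Pi.single j (1 : F))) j) with h4 | h4
    · exfalso
      rw [h4, zero_smul] at h3
      have h5 := slMulVec_inv c (Pi.single i (1 : F))
      rw [h3, Matrix.mulVec_zero] at h5
      have h6 := congrFun h5 i
      rw [Pi.zero_apply, Pi.single_eq_same] at h6
      exact zero_ne_one h6
    · rw [h4, one_smul] at h3
      exact h3
  -- the row group centralizes `t`
  have hRC : rowGroup F i ≤
      Subgroup.centralizer ({t} : Set (Matrix.SpecialLinearGroup (Fin n) F)) := by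
    intro g hg
    obtain ⟨hg1, hg2⟩ := hg
    rw [Subgroup.mem_centralizer_iff]
    intro h hh
    rw [Set.mem_singleton_iff.mp hh]
    apply sl_ext_mulVec
    intro v
    obtain ⟨c, hc⟩ := hg2 v
    rw [slMulVec_mul, slMulVec_mul, hc, htv, htv, Matrix.mulVec_add, Matrix.mulVec_smul, hg1, hc]
    have e1 : (v + c • (Pi.single i (1 : F) : Fin n → F)) j = v j := by
      rw [Pi.add_apply, Pi.smul_apply, hei, smul_zero, add_zero]
    rw [e1]
  -- normality
  have hnorm : ((rowGroup F i).subgroupOf
      (Subgroup.centralizer ({t} : Set (Matrix.SpecialLinearGroup (Fin n) F)))).Normal := by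
    constructor
    intro r hr c
    rw [Subgroup.mem_subgroupOf] at hr ⊢
    obtain ⟨hr1, hr2⟩ := hr
    have hc1 := hCe c.1 c.2
    have hc1' : ((c.1⁻¹ : Matrix.SpecialLinearGroup (Fin n) F) :
        Matrix (Fin n) (Fin n) F).mulVec (Pi.single i (1 : F)) = Pi.single i 1 := by
      have h := slMulVec_inv c.1 (Pi.single i (1 : F))
      rwa [hc1] at h
    show (c.1 * r.1 * c.1⁻¹ : Matrix.SpecialLinearGroup (Fin n) F) ∈ rowGroup F i
    refine ⟨?_, fun v => ?_⟩
    · rw [slMulVec_mul, slMulVec_mul, hc1', hr1, hc1]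
    · obtain ⟨d, hd⟩ := hr2 (((c.1⁻¹ : Matrix.SpecialLinearGroup (Fin n) F) :
        Matrix (Fin n) (Fin n) F).mulVec v)
      refine ⟨d, ?_⟩
      rw [slMulVec_mul, slMulVec_mul, hd, Matrix.mulVec_add, Matrix.mulVec_smul, hc1,
        slMulVec_inv']
  -- the centralizer of the row group in the centralizer of `t`
  have hcent : ∀ g ∈ Subgroup.centralizer ({t} : Set (Matrix.SpecialLinearGroup (Fin n) F)),
      (∀ r ∈ rowGroup F i, r * g = g * r) → g ∈ rowGroup F i := by
    intro g hg hgr
    have hg1 := hCe g hg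
    refine ⟨hg1, fun v => ?_⟩
    refine ⟨(g : Matrix (Fin n) (Fin n) F).mulVec v i - v i, ?_⟩
    funext b
    by_cases hb : b = i
    · subst hb
      rw [Pi.add_apply, Pi.smul_apply, Pi.single_eq_same, smul_eq_mul, mul_one]
      ring
    · obtain ⟨rb, hrbdef⟩ : ∃ rb : Matrix.SpecialLinearGroup (Fin n) F,
          (rb : Matrix (Fin n) (Fin n) F) = Matrix.transvection i b (1 : F) :=
        ⟨⟨Matrix.transvection i b (1 : F),
          Matrix.det_transvection_of_ne i b (Ne.symm hb) 1⟩, rfl⟩
      have hrb : rb ∈ rowGroup F i := by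
        refine ⟨?_, fun w => ⟨w b, ?_⟩⟩
        · rw [hrbdef, transvection_mulVec, Pi.single_eq_of_ne hb, zero_smul, add_zero]
        · rw [hrbdef, transvection_mulVec]
      have h1 := hgr _ hrb
      have h3 : (Matrix.transvection i b (1 : F)).mulVec
          ((g : Matrix (Fin n) (Fin n) F).mulVec v) =
          (g : Matrix (Fin n) (Fin n) F).mulVec ((Matrix.transvection i b (1 : F)).mulVec v) := by
        have e1 : ((rb * g : Matrix.SpecialLinearGroup (Fin n) F) :
            Matrix (Fin n) (Fin n) F).mulVec v =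
            ((g * rb : Matrix.SpecialLinearGroup (Fin n) F) :
              Matrix (Fin n) (Fin n) F).mulVec v := by rw [h1]
        rw [slMulVec_mul, slMulVec_mul, hrbdef] at e1
        exact e1
      rw [transvection_mulVec, transvection_mulVec, Matrix.mulVec_add, Matrix.mulVec_smul, hg1]
        at h3
      have h4 := add_left_cancel h3
      have h5 := congrFun h4 i
      rw [Pi.smul_apply, Pi.smul_apply, Pi.single_eq_same, smul_eq_mul, smul_eq_mul, mul_one,
        mul_one] at h5
      rw [Pi.add_apply, Pi.smul_apply, Pi.single_eq_of_ne hb, smul_zero, add_zero]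
      exact h5
  have hpg : IsPGroup 2 ↥((rowGroup F i).subgroupOf
      (Subgroup.centralizer ({t} : Set (Matrix.SpecialLinearGroup (Fin n) F)))) := by
    intro y
    refine ⟨1, ?_⟩
    rw [pow_one, pow_two]
    apply Subtype.ext
    apply Subtype.ext
    show (y.1.1 * y.1.1 : Matrix.SpecialLinearGroup (Fin n) F) = 1
    obtain ⟨h1, h2'⟩ := Subgroup.mem_subgroupOf.mp y.2
    apply sl_ext_mulVec
    intro v
    obtain ⟨c, hc⟩ := h2' v
    rw [slMulVec_mul, hc, Matrix.mulVec_add, Matrix.mulVec_smul, h1, hc, slMulVec_one, add_assoc,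
      ← add_smul, hcc, zero_smul, add_zero]
  have hle : (rowGroup F i).subgroupOf
      (Subgroup.centralizer ({t} : Set (Matrix.SpecialLinearGroup (Fin n) F))) ≤
      Cfsg.pCore 2 ↥(Subgroup.centralizer ({t} : Set (Matrix.SpecialLinearGroup (Fin n) F))) :=
    le_sSup ⟨hnorm, hpg⟩
  have hcentP : Subgroup.centralizer
      (Cfsg.pCore 2 ↥(Subgroup.centralizer ({t} : Set (Matrix.SpecialLinearGroup (Fin n) F))) :
        Set ↥(Subgroup.centralizer ({t} : Set (Matrix.SpecialLinearGroup (Fin n) F)))) ≤
      Cfsg.pCore 2 ↥(Subgroup.centralizer ({t} : Set (Matrix.SpecialLinearGroup (Fin n) F))) := by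
    intro y hy
    apply hle
    rw [Subgroup.mem_subgroupOf]
    apply hcent y.1 y.2
    intro r hr
    have hrC := hRC hr
    have h1 := Subgroup.mem_centralizer_iff.mp hy ⟨r, hrC⟩
      (hle (Subgroup.mem_subgroupOf.mpr hr))
    exact congrArg Subtype.val h1
  exact Cfsg.Agent.Helper48.generalizedFittingSubgroup_eq_pCore_iff.mpr
    (Cfsg.Agent.Helper48.coreProps_of_centralizer_le hcentP)

end

end Cfsg.Agent.Helper90
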